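import Cfsg.Agent.H1.HeisThree.Small
import Cfsg.Agent.Linear.Generation

/-!
Subgroups of `SL₂` in characteristic `p`: an element of order `p`, or a short list of images.
-/

set_option autoImplicit false

namespace Cfsg.Agent.H76.SUThreeCSix

open Matrix
open Cfsg.Agent.H1.HeisThree (small_of_not_dvd DihLike)

/-- The subgroups of `PSL₂` of order prime to the characteristic. -/
abbrev SmallImg (G : Type*) [Group G] : Prop := Cfsg.Agent.H1.HeisThree.Small G

section Finite

variable {G : Type*} [Group G]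

/-- Orders in the exceptional groups. -/
theorem exc_orders :
    (∀ x : alternatingGroup (Fin 4), x ^ 2 = 1 ∨ x ^ 3 = 1 ∨ x ^ 4 = 1 ∨ x ^ 5 = 1) ∧
    (∀ x : Equiv.Perm (Fin 4), x ^ 2 = 1 ∨ x ^ 3 = 1 ∨ x ^ 4 = 1 ∨ x ^ 5 = 1) ∧
    (∀ x : alternatingGroup (Fin 5), x ^ 2 = 1 ∨ x ^ 3 = 1 ∨ x ^ 4 = 1 ∨ x ^ 5 = 1) := by
  refine ⟨?_, ?_, ?_⟩ <;> decide +kernel

set_option synthInstance.maxSize 4000 in
set_option synthInstance.maxHeartbeats 400000 in
/-- The product of two elements of order three. -/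
theorem small_mul_three (hG : SmallImg G) {a b : G} (ha : a ^ 3 = 1) (hb : b ^ 3 = 1) :
    (a * b) ^ 2 = 1 ∨ (a * b) ^ 3 = 1 ∨ (a * b) ^ 5 = 1 := by
  have key : ∀ {T : Type} [Group T],
      (∀ a b : T, a ^ 3 = 1 → b ^ 3 = 1 → (a * b) ^ 2 = 1 ∨ (a * b) ^ 3 = 1 ∨ (a * b) ^ 5 = 1) →
      (G ≃* T) → (a * b) ^ 2 = 1 ∨ (a * b) ^ 3 = 1 ∨ (a * b) ^ 5 = 1 := by
    intro T _ h e
    have h' := h (e a) (e b) (by rw [← map_pow, ha, map_one]) (by rw [← map_pow, hb, map_one])
    simp only [← map_mul, ← map_pow, EmbeddingLike.map_eq_one_iff] at h'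
    exact h'
  rcases hG with ⟨A, hA, hout⟩ | ⟨⟨e⟩⟩ | ⟨⟨e⟩⟩ | ⟨⟨e⟩⟩
  · have mem : ∀ x : G, x ^ 3 = 1 → x ∈ A := fun x hx => by
      by_contra h
      have := (hout x h).1
      rw [pow_succ, pow_two, this, one_mul] at hx
      exact h (hx ▸ one_mem A)
    have hc : Commute a b := hA a (mem a ha) b (mem b hb)
    exact Or.inr (Or.inl (by rw [hc.mul_pow, ha, hb, one_mul]))
  · exact key (by decide +kernel) e
  · exact key (by decide +kernel) e
  · exact key (by decide +kernel) e

/-- An element of large order commutes with one involution of a four group. -/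
theorem small_big (hG : SmallImg G) {a b e : G} (ha : a ^ 2 = 1) (hb : b ^ 2 = 1)
    (he : ∀ k ∈ [2, 3, 4, 5], e ^ k ≠ 1) :
    Commute e a ∨ Commute e b ∨ Commute e (a * b) := by
  have no : ∀ {T : Type} [Group T], (∀ x : T, x ^ 2 = 1 ∨ x ^ 3 = 1 ∨ x ^ 4 = 1 ∨ x ^ 5 = 1) →
      (G ≃* T) → False := by
    intro T _ h f
    rcases h (f e) with h | h | h | h <;>
      rw [← map_pow, EmbeddingLike.map_eq_one_iff] at h <;> exact he _ (by simp) h
  rcases hG with ⟨A, hA, hout⟩ | ⟨⟨f⟩⟩ | ⟨⟨f⟩⟩ | ⟨⟨f⟩⟩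
  · have heA : e ∈ A := by
      by_contra h
      exact he 2 (by simp) (by rw [pow_two]; exact (hout e h).1)
    by_cases haA : a ∈ A
    · exact Or.inl (hA e heA a haA)
    by_cases hbA : b ∈ A
    · exact Or.inr (Or.inl (hA e heA b hbA))
    refine Or.inr (Or.inr ?_)
    have h1 := (hout a haA).2 e heA
    have h2 := (hout b hbA).2 e heA
    show e * (a * b) = a * b * e
    rw [eq_comm, ← mul_inv_eq_iff_eq_mul]
    calc a * b * e * (a * b)⁻¹ = a * (b * e * b⁻¹) * a⁻¹ := by group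
      _ = (a * e * a⁻¹)⁻¹ := by rw [h2]; group
      _ = e := by rw [h1, inv_inv]
  · exact (no exc_orders.1 f).elim
  · exact (no exc_orders.2.1 f).elim
  · exact (no exc_orders.2.2 f).elim

set_option synthInstance.maxSize 4000 in
set_option synthInstance.maxHeartbeats 400000 in
/-- No involution meets a four group in three elements of order five. -/
theorem small_five (hG : SmallImg G) {z a b : G} (hz : z ^ 2 = 1) (ha : a ^ 2 = 1) (hb : b ^ 2 = 1)
    (hab : a * b = b * a) (h : z * a ≠ 1 ∧ z * b ≠ 1 ∧ z * (a * b) ≠ 1)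
    (h5 : (z * a) ^ 5 = 1 ∧ (z * b) ^ 5 = 1 ∧ (z * (a * b)) ^ 5 = 1) : False := by
  have key : ∀ {T : Type} [Group T],
      (∀ z : T, z ^ 2 = 1 → ∀ a : T, a ^ 2 = 1 → (z * a) ^ 5 = 1 → ∀ b : T, b ^ 2 = 1 →
        (z * b) ^ 5 = 1 → a * b = b * a → (z * (a * b)) ^ 5 = 1 →
        z * a = 1 ∨ z * b = 1 ∨ z * (a * b) = 1) →
      (G ≃* T) → False := by
    intro T _ hT e
    have := hT (e z) (by rw [← map_pow, hz, map_one]) (e a) (by rw [← map_pow, ha, map_one])
      (by rw [← map_mul, ← map_pow, h5.1, map_one]) (e b) (by rw [← map_pow, hb, map_one])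
      (by rw [← map_mul, ← map_pow, h5.2.1, map_one]) (by rw [← map_mul, hab, map_mul])
      (by rw [← map_mul, ← map_mul, ← map_pow, h5.2.2, map_one])
    simp only [← map_mul, EmbeddingLike.map_eq_one_iff] at this
    tauto
  rcases hG with ⟨A, hA, hout⟩ | ⟨⟨e⟩⟩ | ⟨⟨e⟩⟩ | ⟨⟨e⟩⟩
  · have mem : ∀ x : G, x ≠ 1 → x ^ 5 = 1 → x ∈ A := fun x hx hx5 => by
      by_contra hA'
      have h2 := (hout x hA').1
      rw [show (5 : ℕ) = 2 * 2 + 1 from rfl, pow_succ, pow_mul, pow_two x, h2, one_pow, one_mul] at hx5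
      exact hx hx5
    have m1 := mem _ h.1 h5.1
    have m2 := mem _ h.2.1 h5.2.1
    have m3 := mem _ h.2.2 h5.2.2
    have hbA : b ∈ A := by
      have := mul_mem (inv_mem m1) m3
      rwa [← mul_assoc z a b, inv_mul_cancel_left] at this
    have hzA : z ∈ A := by
      have := mul_mem m2 (inv_mem hbA)
      rwa [mul_inv_cancel_right] at this
    have haA : a ∈ A := by
      have := mul_mem (inv_mem hzA) m1
      rwa [inv_mul_cancel_left] at this
    have hc : Commute z a := hA z hzA a haA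
    have h2 : (z * a) ^ 2 = 1 := by rw [hc.mul_pow, hz, ha, one_mul]
    have := h5.1
    rw [show (5 : ℕ) = 2 * 2 + 1 from rfl, pow_succ, pow_mul, h2, one_pow, one_mul] at this
    exact h.1 this
  · exact key (by decide +kernel) e
  · exact key (by decide +kernel) e
  · exact key (by decide +kernel) e

set_option synthInstance.maxSize 4000 in
set_option synthInstance.maxHeartbeats 400000 in
/-- An element of order four has its square in a four group cycled by an element of order three. -/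
theorem small_four (hG : SmallImg G) {a b r e : G} (ha : a ^ 2 = 1) (hb : b ^ 2 = 1)
    (hab : a * b = b * a) (hne : a ≠ b) (hr : r ^ 3 = 1) (hrab : r * a * r⁻¹ = b)
    (he : e ^ 4 = 1) (he2 : e ^ 2 ≠ 1) : e ^ 2 = a ∨ e ^ 2 = b ∨ e ^ 2 = a * b := by
  have key : ∀ {T : Type} [Group T],
      (∀ e : T, e ^ 4 = 1 → ∀ r : T, r ^ 3 = 1 → ∀ a : T, a ^ 2 = 1 → r * a * r⁻¹ ≠ a →
        a * (r * a * r⁻¹) = r * a * r⁻¹ * a →
        e ^ 2 = 1 ∨ e ^ 2 = a ∨ e ^ 2 = r * a * r⁻¹ ∨ e ^ 2 = a * (r * a * r⁻¹)) →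
      (G ≃* T) → e ^ 2 = a ∨ e ^ 2 = b ∨ e ^ 2 = a * b := by
    intro T _ hT f
    subst hrab
    have := hT (f e) (by rw [← map_pow, he, map_one]) (f r) (by rw [← map_pow, hr, map_one]) (f a)
      (by rw [← map_pow, ha, map_one])
      (by rw [← map_inv, ← map_mul, ← map_mul]; exact fun h => hne (f.injective h).symm)
      (by simp only [← map_inv, ← map_mul]; rw [hab])
    simp only [← map_inv, ← map_mul, ← map_pow, EmbeddingLike.map_eq_one_iff, f.injective.eq_iff] at this
    exact this.resolve_left he2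
  rcases hG with ⟨A, hA, hout⟩ | ⟨⟨f⟩⟩ | ⟨⟨f⟩⟩ | ⟨⟨f⟩⟩
  · exfalso
    by_cases hrA : r ∈ A
    · by_cases haA : a ∈ A
      · exact hne (by rw [← hrab, hA r hrA a haA, mul_inv_cancel_right])
      have hinv := (hout a haA).2 r hrA
      have e1 : a * r = r⁻¹ * a := mul_inv_eq_iff_eq_mul.1 hinv
      have e2 : r * a * r⁻¹ = r ^ 2 * a := by
        have e3 : a * r⁻¹ = r * a := by
          calc a * r⁻¹ = r * (r⁻¹ * a) * r⁻¹ := by group
            _ = r * a := by rw [← e1]; group
        rw [mul_assoc, e3, ← mul_assoc, pow_two]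
      rw [e2] at hrab
      have hbe := hab
      rw [← hrab] at hbe
      have h4 : a * (r ^ 2 * a) = r⁻¹ * r⁻¹ := by
        calc a * (r ^ 2 * a) = (a * r * a⁻¹) * (a * r * a⁻¹) * (a * a) := by rw [pow_two r]; group
          _ = r⁻¹ * r⁻¹ := by rw [hinv, ← pow_two a, ha, mul_one]
      rw [h4, mul_assoc, ← pow_two a, ha, mul_one] at hbe
      have h5 : r ^ 4 = 1 := by
        calc r ^ 4 = r * r * r ^ 2 := by group
          _ = r * r * (r⁻¹ * r⁻¹) := by rw [hbe]
          _ = 1 := by group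
      rw [pow_succ, hr, one_mul] at h5
      exact hne (by rw [← hrab, h5, one_pow, one_mul])
    · have := (hout r hrA).1
      rw [pow_succ, pow_two, this, one_mul] at hr
      exact hrA (hr ▸ one_mem A)
  · exact key (by decide +kernel) f
  · exact key (by decide +kernel) f
  · exact key (by decide +kernel) f

end Finite

section SLTwo

variable {F : Type*} [Field F] [Fintype F]

local notation "S2" => Matrix.SpecialLinearGroup (Fin 2) F
local notation "P2" => Matrix.ProjectiveSpecialLinearGroup (Fin 2) F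
local notation "M2" => Matrix (Fin 2) (Fin 2) F

/-- The projection to the projective group. -/
def proj : S2 →* P2 := QuotientGroup.mk' _

omit [Fintype F] in
theorem proj_eq_one {X : S2} : proj X = 1 ↔ (X : M2) = 1 ∨ (X : M2) = -1 := by
  show (QuotientGroup.mk X : P2) = 1 ↔ _
  rw [QuotientGroup.eq_one_iff, Matrix.SpecialLinearGroup.mem_center_iff]
  constructor
  · rintro ⟨r, hr, hX⟩
    rw [Fintype.card_fin, pow_two] at hr
    rcases mul_self_eq_one_iff.1 hr with rfl | rfl
    · exact Or.inl (by rw [← hX, map_one])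
    · exact Or.inr (by rw [← hX, map_neg, map_one])
  · rintro (h | h)
    · exact ⟨1, one_pow _, by rw [h, map_one]⟩
    · exact ⟨-1, by simp, by rw [h, map_neg, map_one]⟩

variable (p : ℕ) [Fact p.Prime] [CharP F p]

/-- Either an element of order `p` in the image, or a small image. -/
theorem small_or_p (H : Subgroup S2) :
    (∃ X ∈ H, proj X ≠ 1 ∧ proj (X ^ p) = 1) ∨ SmallImg (H.map (proj (F := F))) := by
  classical
  by_cases h : p ∣ Nat.card (H.map (proj (F := F)))
  · obtain ⟨⟨_, X, hX, rfl⟩, hord⟩ := exists_prime_orderOf_dvd_card' p h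
    rw [← Subgroup.orderOf_coe] at hord
    refine Or.inl ⟨X, hX, fun h1 => ?_, by rw [map_pow, ← hord, pow_orderOf_eq_one]⟩
    simp only [h1, orderOf_one] at hord
    exact (Fact.out : p.Prime).ne_one hord.symm
  · exact Or.inr (small_of_not_dvd p _ h)

end SLTwo

end Cfsg.Agent.H76.SUThreeCSix
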