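import Cfsg.Agent.H76.SUThreeCSix.Trans
import Cfsg.Agent.H76.SUThreeCSix.Small
import Cfsg.Agent.H1.HeisThree.Central

/-!
The actions on the planes orthogonal to two points, and the small images there.
-/

set_option autoImplicit false

open Cfsg

namespace Cfsg.Agent.H76.SUThreeCSix

open Matrix
open Cfsg.Agent.H1.HeisThree (Cube sum3 neg_one_T3 neg_two_T3 one_ne_two_T3 two_ne_one_T3
  zero_ne_two_T3 two_ne_zero_T3)

variable {F : Type*} [Field F] [Fintype F] {p : ℕ} {D : Fld F p} {M : Subgroup (GL (ZMod 3) F)}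

local notation "T3" => ZMod 3
local notation "M3" => Matrix (ZMod 3) (ZMod 3) F
local notation "G3" => GL (ZMod 3) F
local notation "M2" => Matrix (Fin 2) (Fin 2) F
local notation "S2" => Matrix.SpecialLinearGroup (Fin 2) F

/-- A faithful action off an anisotropic point has small image. -/
theorem Over.small_of_rep (h : Over D M) {A : Subgroup G3} (hA : A ≤ M) (rep : A →* M2) {u : T3 → F}
    (hu : ∑ i, u i * D.σ (u i) ≠ 0) (hfix : ∀ g : A, ∃ c : F, ((g : G3) : M3) *ᵥ u = c • u)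
    (hinj : ∀ g : A, rep g = 1 → ((g : G3) : M3) *ᵥ u = u → g = 1)
    (H : Subgroup S2) (hH : ∀ X ∈ H, ∃ g : A, ∃ l : F, l ≠ 0 ∧ rep g = l • (X : M2)) :
    SmallImg (H.map (proj (F := F))) := by
  have := D.charP
  have := Fact.mk D.prime
  refine (small_or_p p H).resolve_left ?_
  rintro ⟨X, hX, hX1, hXp⟩
  obtain ⟨g, l, hl, hgX⟩ := hH X hX
  have hl1 : l ^ (p ^ 2 - 1) = 1 := by rw [← D.card]; exact FiniteField.pow_card_sub_one_eq_one l hl
  obtain ⟨c, hc⟩ := hfix g
  have hu0 : u ≠ 0 := fun h0 => hu (by simp [h0])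
  have hc0 : c ≠ 0 := fun h0 => by
    have h1 := congrArg (fun x => (((g : G3)⁻¹ : G3) : M3) *ᵥ x) hc
    simp only [Matrix.mulVec_mulVec, h0, zero_smul, Matrix.mulVec_zero, Units.inv_mul, one_mulVec] at h1
    exact hu0 h1
  have hc1 : c ^ (p ^ 2 - 1) = 1 := by rw [← D.card]; exact FiniteField.pow_card_sub_one_eq_one c hc0
  have hpow : ∀ m : ℕ, (((g : G3) ^ m : G3) : M3) *ᵥ u = c ^ m • u := by
    intro m
    induction m with
    | zero => simp
    | succ m ih =>
      rw [pow_succ, Units.val_mul, ← Matrix.mulVec_mulVec, hc, Matrix.mulVec_smul, ih, smul_smul,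
        pow_succ, mul_comm]
  have h1 : g ^ (p * (p ^ 2 - 1)) = 1 := by
    refine hinj _ ?_ ?_
    · rw [map_pow, hgX, smul_pow, mul_comm p, pow_mul l, hl1, one_pow, one_smul, mul_comm, pow_mul]
      have hev : Even (p ^ 2 - 1) := by
        have := D.big
        have hodd : Odd (p ^ 2) := (D.prime.odd_of_ne_two (by omega)).pow
        exact Nat.Odd.sub_odd hodd odd_one
      rcases proj_eq_one.1 hXp with e | e <;> rw [Matrix.SpecialLinearGroup.coe_pow] at e <;> rw [e]
      · exact one_pow _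
      · exact hev.neg_one_pow
    · rw [Subgroup.coe_pow, hpow, mul_comm p, pow_mul c, hc1, one_pow, one_smul]
  have h2 := h.no_order_p (hA g.2) hu hc (by rw [← Subgroup.coe_pow, h1, Subgroup.coe_one])
  apply hX1
  have h3 : proj (X ^ (p ^ 2 - 1)) = 1 := by
    refine proj_eq_one.2 (Or.inl ?_)
    have h4 : rep (g ^ (p ^ 2 - 1)) = 1 := by
      rw [show g ^ (p ^ 2 - 1) = 1 from Subtype.ext (by simpa using h2), map_one]
    rw [map_pow, hgX, smul_pow, hl1, one_smul] at h4
    rw [Matrix.SpecialLinearGroup.coe_pow]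
    exact h4
  rw [map_pow] at h3 hXp
  have hco : Nat.Coprime p (p ^ 2 - 1) := D.prime.coprime_iff_not_dvd.2 fun hd => by
    have := D.big
    have h5 := Nat.dvd_sub (dvd_pow_self p two_ne_zero) hd
    rw [Nat.sub_sub_self (Nat.one_le_pow 2 p (by omega))] at h5
    exact D.prime.not_dvd_one h5
  exact orderOf_eq_one_iff.1 (Nat.eq_one_of_dvd_coprimes hco (orderOf_dvd_of_pow_eq_one hXp)
    (orderOf_dvd_of_pow_eq_one h3))

variable (D M)

/-- Elements of `SL₂` proportional to the action of the centraliser on symmetric vectors. -/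
def KC : Subgroup S2 where
  carrier := {X | ∃ g : D.C.Hgrp, (g : G3) ∈ M ∧ ∃ l : F, l ≠ 0 ∧ (D.C.phi g : M2) = l • (X : M2)}
  one_mem' := ⟨1, one_mem _, 1, one_ne_zero, by simp⟩
  mul_mem' := by
    rintro X Y ⟨g, hg, l, hl, e⟩ ⟨k, hk, l', hl', e'⟩
    refine ⟨g * k, mul_mem hg hk, l * l', mul_ne_zero hl hl', ?_⟩
    rw [map_mul, Units.val_mul, e, e', Matrix.SpecialLinearGroup.coe_mul, Matrix.smul_mul,
      Matrix.mul_smul, smul_smul]
  inv_mem' := by
    rintro X ⟨g, hg, l, hl, e⟩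
    refine ⟨g⁻¹, inv_mem hg, l⁻¹, inv_ne_zero hl, ?_⟩
    rw [map_inv]
    refine Units.inv_eq_of_mul_eq_one_left ?_
    rw [e, Matrix.smul_mul, Matrix.mul_smul, smul_smul, inv_mul_cancel₀ hl, one_smul,
      ← Matrix.SpecialLinearGroup.coe_mul, inv_mul_cancel, Matrix.SpecialLinearGroup.coe_one]

variable {D M}

theorem Over.KC_small (h : Over D M) : SmallImg ((KC D M).map (proj (F := F))) := by
  let A : Subgroup G3 := D.C.Hgrp ⊓ M
  let inc : A →* D.C.Hgrp := Subgroup.inclusion inf_le_left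
  refine h.small_of_rep (A := A) inf_le_right ((Units.coeHom M2).comp (D.C.phi.comp inc))
    (u := fun i : T3 => if i = 0 then 0 else if i = 1 then 1 else -1) ?_ ?_ ?_ _ ?_
  · rw [sum3]
    simp [two_ne_zero_T3, two_ne_one_T3]
    exact D.two_ne_zero ∘ fun h => by linear_combination h
  · intro g
    obtain ⟨a1, a2, a3, a4⟩ := D.C.sym_facts (inc g).2
    refine ⟨Cube.muVal (g : G3), funext fun i => ?_⟩
    simp only [Matrix.mulVec, dotProduct, sum3, Pi.smul_apply, smul_eq_mul]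
    simp only [two_ne_zero_T3, two_ne_one_T3, if_true, if_false, one_ne_zero, Cube.muVal]
    obtain rfl | rfl | rfl : i = 0 ∨ i = 1 ∨ i = 2 := by revert i; decide
    · rw [show ((g : G3) : M3) 0 2 = ((g : G3) : M3) 0 1 from a1]
      simp
    · simp; ring
    · rw [show ((g : G3) : M3) 2 1 = ((g : G3) : M3) 1 2 from a3,
        show ((g : G3) : M3) 2 2 = ((g : G3) : M3) 1 1 from a4]
      simp [two_ne_zero_T3, two_ne_one_T3]
      ring
  · intro g hg hgu
    obtain ⟨a1, a2, a3, a4⟩ := D.C.sym_facts (inc g).2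
    have h1 : inc g = 1 := by
      refine D.C.ext_H D.two_ne_zero (by rw [map_one, Units.val_one]; exact hg) ?_
      rw [map_one, Units.val_one, Cube.coe_mu]
      have h2 := congrFun hgu 1
      simp [Matrix.mulVec, dotProduct, sum3, two_ne_zero_T3, two_ne_one_T3] at h2
      show ((g : G3) : M3) 1 1 - ((g : G3) : M3) 1 2 = 1
      linear_combination h2
    exact Subtype.ext (show (g : G3) = 1 from congrArg (fun x : D.C.Hgrp => (x : G3)) h1)
  · rintro X ⟨g, hg, l, hl, e⟩
    exact ⟨⟨(g : G3), g.2, hg⟩, l, hl, e⟩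

/-- The elements of `M` fixing the first coordinate line. -/
def St (h : Over D M) : Subgroup G3 where
  carrier := {g | g ∈ M ∧ (g : M3) 0 1 = 0 ∧ (g : M3) 0 2 = 0 ∧ (g : M3) 1 0 = 0 ∧ (g : M3) 2 0 = 0}
  one_mem' := ⟨one_mem _, by simp [zero_ne_two_T3, two_ne_zero_T3]⟩
  mul_mem' := by
    rintro a b ⟨ha, a1, a2, a3, a4⟩ ⟨hb, b1, b2, b3, b4⟩
    refine ⟨mul_mem ha hb, ?_, ?_, ?_, ?_⟩ <;>
      simp [Matrix.mul_apply, sum3, a1, a2, a3, a4, b1, b2, b3, b4]
  inv_mem' := by
    rintro a ⟨ha, a1, a2, a3, a4⟩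
    refine ⟨inv_mem ha, ?_, ?_, ?_, ?_⟩ <;> rw [D.U3_inv_apply (h.le ha)] <;>
      simp [a1, a2, a3, a4]

/-- The action on the last two coordinates. -/
def bRep (h : Over D M) : St h →* M2 where
  toFun g := !![((g : G3) : M3) 1 1, ((g : G3) : M3) 1 2; ((g : G3) : M3) 2 1, ((g : G3) : M3) 2 2]
  map_one' := by
    ext i j
    fin_cases i <;> fin_cases j <;> simp [one_ne_two_T3, two_ne_one_T3]
  map_mul' := by
    rintro ⟨a, ha, a1, a2, a3, a4⟩ ⟨b, hb, b1, b2, b3, b4⟩
    ext i j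
    fin_cases i <;> fin_cases j <;>
      simp [Matrix.mul_apply, sum3, Fin.sum_univ_two, a3, a4]

/-- Elements of `SL₂` proportional to the action on the last two coordinates. -/
def KE (h : Over D M) : Subgroup S2 where
  carrier := {X | ∃ g : St h, ∃ l : F, l ≠ 0 ∧ bRep h g = l • (X : M2)}
  one_mem' := ⟨1, 1, one_ne_zero, by simp⟩
  mul_mem' := by
    rintro X Y ⟨g, l, hl, e⟩ ⟨k, l', hl', e'⟩
    refine ⟨g * k, l * l', mul_ne_zero hl hl', ?_⟩
    rw [map_mul, e, e', Matrix.SpecialLinearGroup.coe_mul, Matrix.smul_mul, Matrix.mul_smul, smul_smul]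
  inv_mem' := by
    rintro X ⟨g, l, hl, e⟩
    refine ⟨g⁻¹, l⁻¹, inv_ne_zero hl, ?_⟩
    have h1 : bRep h g⁻¹ * bRep h g = 1 := by rw [← map_mul, inv_mul_cancel, map_one]
    have h2 : bRep h g * (l⁻¹ • ((X⁻¹ : S2) : M2)) = 1 := by
      rw [e, Matrix.smul_mul, Matrix.mul_smul, smul_smul, mul_inv_cancel₀ hl, one_smul,
        ← Matrix.SpecialLinearGroup.coe_mul, mul_inv_cancel, Matrix.SpecialLinearGroup.coe_one]
    exact left_inv_eq_right_inv h1 h2

theorem Over.KE_small (h : Over D M) : SmallImg ((KE h).map (proj (F := F))) := by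
  refine h.small_of_rep (A := St h) (fun g hg => hg.1) (bRep h) (u := Pi.single 0 1) ?_ ?_ ?_ _
    (fun X hX => hX)
  · rw [sum3]; simp [two_ne_zero_T3]
  · intro g
    refine ⟨((g : G3) : M3) 0 0, funext fun i => ?_⟩
    obtain ⟨-, -, -, a3, a4⟩ := g.2
    rw [Matrix.mulVec_single_one]
    obtain rfl | rfl | rfl : i = 0 ∨ i = 1 ∨ i = 2 := by revert i; decide
    all_goals simp [a3, a4, two_ne_zero_T3]
  · intro g hg hgu
    obtain ⟨-, a1, a2, a3, a4⟩ := g.2
    have e00 := congrFun hgu 0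
    rw [Matrix.mulVec_single_one] at e00
    simp at e00
    have e := fun i j => congrFun (congrFun hg i) j
    have e11 := e 0 0
    have e12 := e 0 1
    have e21 := e 1 0
    have e22 := e 1 1
    simp [bRep] at e11 e12 e21 e22
    refine Subtype.ext (Units.ext ?_)
    ext i j
    obtain rfl | rfl | rfl : i = 0 ∨ i = 1 ∨ i = 2 := by revert i; decide
    all_goals obtain rfl | rfl | rfl : j = 0 ∨ j = 1 ∨ j = 2 := by revert j; decide
    all_goals simp [e00, a1, a2, a3, a4, e11, e12, e21, e22, one_ne_two_T3, two_ne_one_T3,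
      zero_ne_two_T3, two_ne_zero_T3]

end Cfsg.Agent.H76.SUThreeCSix
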