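import Cfsg.Agent.H1.HeisThree.Model

/-!
A normal subgroup with scalar commutators, not inside the scalars, of an overgroup of the
Heisenberg group with its quarter turn forces the overgroup into the normaliser.

This holds over every field with a primitive cube root of unity.
-/

set_option autoImplicit false

namespace Cfsg.Agent.H76.SUThreeCSix

open Matrix
open Cfsg.Agent.H1.HeisThree (Cube sc sc_mul sc_one sc_comm sc_inj sc_pow coe_sc scGrp)

variable {F : Type*} [Field F]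

local notation "T3" => ZMod 3
local notation "V" => ZMod 3 × ZMod 3
local notation "M3" => Matrix (ZMod 3) (ZMod 3) F
local notation "G3" => GL (ZMod 3) F

section Add

variable {A : Type*} [AddCommGroup A] (φ : V → A →+ A)

/-- The last nonzero iterated difference of an element killed by three is fixed. -/
theorem fixed_step (α : A →+ A) (hα : ∀ x, α (α (α x)) = x) {x : A} (hx : x ≠ 0)
    (h3 : x + x + x = 0) :
    ∃ z, z ≠ 0 ∧ z + z + z = 0 ∧ α z = z ∧
      ∀ β : A →+ A, (∀ a, β (α a) = α (β a)) → β x = x → β z = z := by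
  have k3 : ∀ a : A, a + a + a = 0 → α a + α a + α a = 0 := fun a ha => by
    rw [← map_add, ← map_add, ha, map_zero]
  by_cases h1 : α x - x = 0
  · exact ⟨x, hx, h3, sub_eq_zero.1 h1, fun β _ h => h⟩
  set y := α x - x with hy
  have hy3 : y + y + y = 0 := by
    rw [hy, show α x - x + (α x - x) + (α x - x) = (α x + α x + α x) - (x + x + x) by abel,
      k3 x h3, h3, sub_zero]
  have hyβ : ∀ β : A →+ A, (∀ a, β (α a) = α (β a)) → β x = x → β y = y := fun β hc hb => by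
    rw [hy, map_sub, hc, hb]
  by_cases h2 : α y - y = 0
  · exact ⟨y, h1, hy3, sub_eq_zero.1 h2, hyβ⟩
  refine ⟨α y - y, h2, ?_, sub_eq_zero.1 ?_, fun β hc hb => by rw [map_sub, hc, hyβ β hc hb]⟩
  · rw [show α y - y + (α y - y) + (α y - y) = (α y + α y + α y) - (y + y + y) by abel,
      k3 y hy3, hy3, sub_zero]
  · rw [hy, map_sub, map_sub, map_sub, hα]
    rw [show x - α (α x) - (α (α x) - α x) - (α (α x) - α x - (α x - x)) =
      -(α (α x) + α (α x) + α (α x)) + (α x + α x + α x) by abel, k3 _ (k3 x h3), k3 x h3, neg_zero,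
      zero_add]

variable {φ}

/-- An action of the nine translations fixes an element of order three if there is one. -/
theorem exists_fixed_all (h0 : ∀ a, φ 0 a = a) (hadd : ∀ u v a, φ (u + v) a = φ u (φ v a)) {x : A}
    (hx : x ≠ 0) (h3 : x + x + x = 0) : ∃ z, z ≠ 0 ∧ ∀ u, φ u z = z := by
  have cube : ∀ u a, φ u (φ u (φ u a)) = a := fun u a => by
    rw [← hadd, ← hadd, show u + u + u = 0 by revert u; decide, h0]
  have comm : ∀ u v a, φ u (φ v a) = φ v (φ u a) := fun u v a => by rw [← hadd, ← hadd, add_comm]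
  obtain ⟨y, hy, hy3, hy1, -⟩ := fixed_step (φ (1, 0)) (cube _) hx h3
  obtain ⟨z, hz, -, hz2, hzb⟩ := fixed_step (φ (0, 1)) (cube _) hy hy3
  have hz1 := hzb (φ (1, 0)) (comm _ _) hy1
  refine ⟨z, hz, fun u => ?_⟩
  have key : ∀ u : V, u = 0 ∨ u = (1, 0) ∨ u = (1, 0) + (1, 0) ∨ u = (0, 1) ∨ u = (0, 1) + (0, 1) ∨
      u = (1, 0) + (0, 1) ∨ u = (1, 0) + (1, 0) + (0, 1) ∨ u = (1, 0) + (0, 1) + (0, 1) ∨
      u = (1, 0) + (1, 0) + ((0, 1) + (0, 1)) := by decide
  rcases key u with e | e | e | e | e | e | e | e | e <;> simp only [e, h0, hadd, hz1, hz2]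

/-- Without elements of order three, some nonzero translation has a fixed point. -/
theorem exists_fixed_one (h0 : ∀ a, φ 0 a = a) (hadd : ∀ u v a, φ (u + v) a = φ u (φ v a))
    (hno : ∀ a : A, a + a + a = 0 → a = 0) {x : A} (hx : x ≠ 0) :
    ∃ u, u ≠ 0 ∧ ∃ z, z ≠ 0 ∧ φ u z = z := by
  by_contra hcon
  push Not at hcon
  have hN : ∀ u, u ≠ 0 → ∀ a, a + φ u a + φ u (φ u a) = 0 := by
    intro u hu a
    by_contra h
    refine hcon u hu _ h ?_
    rw [map_add, map_add, ← hadd u u, ← hadd u (u + u), (by decide : ∀ u : V, u + (u + u) = 0) u, h0]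
    abel
  have ha := hN (1, 0) (by decide) x
  have hb := hN (0, 1) (by decide) x
  have hc := hN (1, 1) (by decide) x
  have hd := hN (2, 1) (by decide) x
  have hall : (x + φ (1, 0) x + φ (1, 0) (φ (1, 0) x)) +
      φ (0, 1) (x + φ (1, 0) x + φ (1, 0) (φ (1, 0) x)) +
      φ (0, 1) (φ (0, 1) (x + φ (1, 0) x + φ (1, 0) (φ (1, 0) x))) = 0 := by
    rw [ha, map_zero, map_zero, add_zero, add_zero]
  simp only [map_add, ← hadd] at ha hb hc hd hall
  simp only [Prod.mk_add_mk, show (1 : T3) + 1 = 2 from rfl, show (2 : T3) + 2 = 1 from rfl,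
    show (1 : T3) + 2 = 0 from rfl, show (2 : T3) + 1 = 0 from rfl, add_zero, zero_add]
    at ha hb hc hd hall
  apply hx
  apply hno
  calc x + x + x
      = (x + φ (1, 0) x + φ (2, 0) x) + (x + φ (0, 1) x + φ (0, 2) x) + (x + φ (1, 1) x + φ (2, 2) x) +
          (x + φ (2, 1) x + φ (1, 2) x) -
          (x + φ (1, 0) x + φ (2, 0) x + (φ (0, 1) x + φ (1, 1) x + φ (2, 1) x) +
            (φ (0, 2) x + φ (1, 2) x + φ (2, 2) x)) := by abel
    _ = 0 := by rw [hall, ha, hb, hc, hd]; abel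

end Add

/-- A matrix commuting with the Heisenberg group is a scalar matrix. -/
theorem scalar_of_comm (C : Cube F) {T : M3} (h : ∀ v, T * C.wMat v = C.wMat v * T) :
    T = T 0 0 • 1 := by
  have e2 : ∀ i j, i ≠ j → T i j = 0 := by
    intro i j hij
    have := congrFun (congrFun (h (0, 1)) i) j
    simp only [Matrix.mul_apply, Cube.wMat_apply, add_zero, one_mul, mul_ite, ite_mul, zero_mul,
      mul_zero, Finset.sum_ite_eq, Finset.sum_ite_eq', Finset.mem_univ, if_true] at this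
    have h' : T i j * (C.ch j - C.ch i) = 0 := by linear_combination this
    exact (mul_eq_zero.1 h').resolve_right (sub_ne_zero.2 fun e => hij (C.ch_inj e).symm)
  have e1 : ∀ i, T (i + 1) (i + 1) = T i i := by
    intro i
    have := congrFun (congrFun (h (1, 0)) (i + 1)) i
    simp only [Matrix.mul_apply, Cube.wMat_apply, zero_mul, C.ch_zero, mul_ite, ite_mul, mul_one,
      one_mul, mul_zero, Finset.sum_ite_eq', Finset.mem_univ, if_true] at this
    rw [this, Finset.sum_eq_single i]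
    · simp
    · intro m _ hm
      rw [if_neg]; exact fun e => hm (add_right_cancel e).symm
    · simp
  have h1 := e1 0
  have h2 := e1 1
  rw [show (0 : T3) + 1 = 1 from rfl] at h1
  rw [show (1 : T3) + 1 = 2 from rfl] at h2
  ext i j
  by_cases hij : i = j
  · subst hij
    obtain rfl | rfl | rfl : i = 0 ∨ i = 1 ∨ i = 2 := by revert i; decide
    all_goals simp [h1, h2]
  · simp [e2 i j hij, hij]

/-- A scalar commutator of matrices has a cube equal to one. -/
theorem cube_of_comm {a b : G3} {c : Fˣ} (h : a * b * a⁻¹ = sc c * b) : c ^ 3 = 1 := by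
  have h1 := congrArg (fun g : G3 => (g : M3).det) h
  simp only [Units.val_mul, Matrix.det_mul, coe_sc, Matrix.det_smul, Matrix.det_one, mul_one,
    ZMod.card] at h1
  rw [mul_right_comm, ← Matrix.det_mul, Units.mul_inv, Matrix.det_one, one_mul] at h1
  have hb : (b : M3).det ≠ 0 := (Matrix.isUnit_iff_isUnit_det _).1 b.isUnit |>.ne_zero
  exact Units.ext (by rw [Units.val_pow_eq_pow_val, Units.val_one]; exact ((mul_eq_right₀ hb).1 h1.symm))

/-- The end step. -/
theorem le_NZ_of_scalar_commutators [Finite F] (C : Cube F) {M L : Subgroup G3} (hW : ∀ v, C.W v ∈ M)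
    (hS : C.S ∈ M) (hLM : L ≤ M) (hnorm : ∀ g ∈ M, ∀ l ∈ L, g * l * g⁻¹ ∈ L)
    (hne : ∃ x ∈ L, ¬ ∃ c : Fˣ, x = sc c)
    (hcom : ∀ a ∈ L, ∀ b ∈ L, ∃ c : Fˣ, a * b = sc c * (b * a)) : M ≤ C.NZ := by
  haveI : (scGrp F T3).Normal := ⟨fun x hx g => by
    obtain ⟨c, rfl⟩ := hx
    show g * sc c * g⁻¹ ∈ _
    rw [← sc_comm, mul_inv_cancel_right]
    exact ⟨c, rfl⟩⟩
  let π : G3 →* G3 ⧸ scGrp F T3 := QuotientGroup.mk' _
  have hπsc : ∀ c : Fˣ, π (sc c) = 1 := fun c => (QuotientGroup.eq_one_iff _).2 ⟨c, rfl⟩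
  have hπ : ∀ {a b : G3}, π a = π b → ∃ c : Fˣ, a = sc c * b := by
    intro a b h
    have h1 : π (a * b⁻¹) = 1 := by rw [map_mul, map_inv, h, mul_inv_cancel]
    obtain ⟨c, hc⟩ := (QuotientGroup.eq_one_iff _).1 h1
    exact ⟨c, by rw [show sc c = a * b⁻¹ from hc, inv_mul_cancel_right]⟩
  have hπ1 : ∀ {a : G3}, π a = 1 → ∃ c : Fˣ, a = sc c := fun {a} h => by
    obtain ⟨c, hc⟩ := hπ (h.trans (map_one π).symm)
    exact ⟨c, by rwa [mul_one] at hc⟩
  have hWmul : ∀ v w : V, π (C.W v) * π (C.W w) = π (C.W (v + w)) := fun v w => by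
    rw [← map_mul, C.W_mul, map_mul, hπsc, one_mul]
  set Γ : Subgroup (G3 ⧸ scGrp F T3) := L.map π with hΓ
  haveI : IsMulCommutative Γ := ⟨⟨by
    rintro ⟨_, a, ha, rfl⟩ ⟨_, b, hb, rfl⟩
    obtain ⟨c, hc⟩ := hcom a ha b hb
    exact Subtype.ext (by
      show π a * π b = π b * π a
      rw [← map_mul, hc, map_mul, hπsc, one_mul, map_mul])⟩⟩
  letI : CommGroup Γ := { (inferInstance : Group Γ) with mul_comm := mul_comm' }
  have hmem : ∀ (v : V) (q : Γ), π (C.W v) * q * (π (C.W v))⁻¹ ∈ Γ := by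
    rintro v ⟨_, a, ha, rfl⟩
    rw [← map_mul, ← map_inv, ← map_mul]
    exact ⟨_, hnorm _ (hW v) a ha, rfl⟩
  let φ : V → Additive Γ →+ Additive Γ := fun v => MonoidHom.toAdditive
    { toFun := fun q => (⟨_, hmem v q⟩ : Γ)
      map_one' := Subtype.ext (by simp)
      map_mul' := fun q r => Subtype.ext (by simp) }
  have hφ : ∀ (v : V) (q : Additive Γ), ((Additive.toMul (φ v q) : Γ) : G3 ⧸ scGrp F T3) =
      π (C.W v) * (Additive.toMul q : Γ) * (π (C.W v))⁻¹ := fun _ _ => rfl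
  have hφ0 : ∀ q, φ 0 q = q := fun q => Additive.toMul.injective (Subtype.ext (by
    rw [hφ, C.W_zero, map_one, one_mul, inv_one, mul_one]))
  have hφadd : ∀ u v q, φ (u + v) q = φ u (φ v q) := fun u v q =>
    Additive.toMul.injective (Subtype.ext (by rw [hφ, hφ, hφ, ← hWmul]; group))
  obtain ⟨x₀, hx₀, hx₀ns⟩ := hne
  have hx₀ne : Additive.ofMul (⟨π x₀, _, hx₀, rfl⟩ : Γ) ≠ 0 := fun h =>
    hx₀ns (hπ1 (congrArg (fun q : Additive Γ => ((Additive.toMul q : Γ) : G3 ⧸ scGrp F T3)) h))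
  have lift : ∀ q : Additive Γ, q ≠ 0 →
      ∃ a ∈ L, π a = ((Additive.toMul q : Γ) : G3 ⧸ scGrp F T3) ∧ ¬ ∃ c : Fˣ, a = sc c := by
    intro q hq
    obtain ⟨a, ha, hae⟩ := (Additive.toMul q).2
    refine ⟨a, ha, hae, ?_⟩
    rintro ⟨c, rfl⟩
    exact hq (Additive.toMul.injective (Subtype.ext (by rw [← hae, hπsc]; rfl)))
  -- elements inducing the identity
  have fin : ∀ a ∈ L, (∀ u, π (C.W u) * π a = π a * π (C.W u)) → (¬ ∃ c : Fˣ, a = sc c) →
      M ≤ C.NZ := by
    intro a ha hcomm hns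
    obtain ⟨c, v, hcv⟩ := C.inR_of_fix (g := a) fun u => by
      obtain ⟨d, hd⟩ := hπ (a := a * C.W u) (b := C.W u * a) (by rw [map_mul, map_mul, hcomm])
      exact ⟨d, by rw [id, mul_inv_eq_iff_eq_mul, mul_assoc, hd]⟩
    have hv : v ≠ 0 := fun h => hns ⟨c, by rw [hcv, h, C.W_zero, mul_one]⟩
    let B : Set V := {u | ∃ b ∈ L, π b = π (C.W u)}
    have hBv : v ∈ B := ⟨a, ha, by rw [hcv, map_mul, hπsc, one_mul]⟩
    have hBadd : ∀ u w, u ∈ B → w ∈ B → u + w ∈ B := by
      rintro u w ⟨b, hb, hbe⟩ ⟨b', hb', hbe'⟩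
      exact ⟨b * b', mul_mem hb hb', by rw [map_mul, hbe, hbe', hWmul]⟩
    have hBS : ∀ u, u ∈ B → (-u.2, u.1) ∈ B := by
      rintro u ⟨b, hb, hbe⟩
      refine ⟨_, hnorm _ hS b hb, ?_⟩
      rw [map_mul, map_mul, hbe, ← map_mul, C.S_W, map_mul, map_mul, hπsc, one_mul, mul_assoc,
        ← map_mul, mul_inv_cancel, map_one, mul_one]
    have hB : ∀ u, u ∈ B := by
      intro u
      have key : ∀ v u : V, v ≠ 0 → u = v + v + v ∨ u = v ∨ u = v + v ∨ u = (-v.2, v.1) ∨
          u = (-v.2, v.1) + (-v.2, v.1) ∨ u = v + (-v.2, v.1) ∨ u = v + v + (-v.2, v.1) ∨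
          u = v + (-v.2, v.1) + (-v.2, v.1) ∨ u = v + v + ((-v.2, v.1) + (-v.2, v.1)) := by decide
      have hw := hBS _ hBv
      rcases key v u hv with e | e | e | e | e | e | e | e | e <;> rw [e] <;>
        repeat (first | assumption | apply hBadd)
    intro g hg
    refine C.mem_NZ_of_conj fun u => ?_
    obtain ⟨b, hb, hbe⟩ := hB u
    -- every element of `L` is in the Heisenberg group times scalars
    obtain ⟨e, w, hew⟩ := C.inR_of_fix (g := g * b * g⁻¹) fun t => by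
      obtain ⟨b', hb', hbe'⟩ := hB t
      obtain ⟨d, hd⟩ := hcom _ (hnorm g hg b hb) _ hb'
      obtain ⟨d', hd'⟩ := hπ hbe'
      refine ⟨d, ?_⟩
      rw [id, mul_inv_eq_iff_eq_mul, mul_assoc (sc d)]
      rw [hd', ← mul_assoc (g * b * g⁻¹) (sc d'), ← sc_comm d' (g * b * g⁻¹),
        mul_assoc (sc d') (g * b * g⁻¹), mul_assoc (sc d') (C.W t), ← mul_assoc (sc d), ← sc_mul,
        mul_comm d d', sc_mul, mul_assoc (sc d') (sc d)] at hd
      exact mul_left_cancel hd
    obtain ⟨d, hd⟩ := hπ hbe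
    refine ⟨d⁻¹ * e, w, ?_⟩
    have h1 : g * C.W u * g⁻¹ = sc d⁻¹ * (g * b * g⁻¹) := by
      rw [hd, H1.HeisThree.conj_sc_mul, ← mul_assoc, ← sc_mul, inv_mul_cancel, sc_one, one_mul]
    rw [h1, hew, ← mul_assoc, ← sc_mul]
  by_cases h3 : ∀ q : Additive Γ, q + q + q = 0 → q = 0
  swap
  · push Not at h3
    obtain ⟨q, hq3, hq⟩ := h3
    obtain ⟨z, hz, hzfix⟩ := exists_fixed_all hφ0 hφadd hq hq3
    obtain ⟨a, ha, hae, hns⟩ := lift z hz
    refine fin a ha (fun u => ?_) hns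
    rw [hae, ← mul_inv_eq_iff_eq_mul, ← hφ, hzfix]
  -- exact commutation
  have hexact : ∀ (w a : G3), a ∈ L → ∀ c : Fˣ, w * a * w⁻¹ = sc c * a → w * a = a * w := by
    intro w a ha c hc
    have hc3 := cube_of_comm hc
    set q : Additive Γ := Additive.ofMul (⟨π a, _, ha, rfl⟩ : Γ) with hq
    set n := addOrderOf q with hn
    have hn3 : ¬ (3 ∣ n) := by
      rintro ⟨k, hk⟩
      have hk0 : 0 < k := by
        have : 0 < n := addOrderOf_pos q
        omega
      have h1 : k • q ≠ 0 := fun e => by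
        have := Nat.le_of_dvd hk0 (addOrderOf_dvd_of_nsmul_eq_zero e)
        omega
      refine h1 (h3 _ ?_)
      rw [← add_nsmul, ← add_nsmul, show k + k + k = n by omega, addOrderOf_nsmul_eq_zero]
    have han : π (a ^ n) = 1 := by
      rw [map_pow]
      exact congrArg (fun r : Additive Γ => ((Additive.toMul r : Γ) : G3 ⧸ scGrp F T3))
        (addOrderOf_nsmul_eq_zero q)
    obtain ⟨d, hd⟩ := hπ1 han
    have h2 := congrArg (· ^ n) hc
    simp only [conj_pow, (show Commute (sc c) a from sc_comm c a).mul_pow, hd, sc_pow, ← sc_mul] at h2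
    rw [← sc_comm, mul_inv_cancel_right] at h2
    have hcn : c ^ n = 1 := by simpa using (sc_inj h2).symm
    have hc1 : c = 1 := orderOf_eq_one_iff.1 (Nat.eq_one_of_dvd_coprimes
      ((Nat.prime_three.coprime_iff_not_dvd).2 hn3) (orderOf_dvd_of_pow_eq_one hc3)
      (orderOf_dvd_of_pow_eq_one hcn))
    rw [hc1, sc_one, one_mul, mul_inv_eq_iff_eq_mul] at hc
    exact hc
  have hab : ∀ a ∈ L, ∀ b ∈ L, a * b = b * a := fun a ha b hb => by
    obtain ⟨c, hc⟩ := hcom a ha b hb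
    exact hexact a b hb c (by rw [mul_inv_eq_iff_eq_mul, hc, mul_assoc])
  exfalso
  obtain ⟨v, hv, z, hz, hzfix⟩ := exists_fixed_one hφ0 hφadd h3 hx₀ne
  obtain ⟨a, ha, hae, hns⟩ := lift z hz
  have hX : C.W v * a = a * C.W v := by
    obtain ⟨c, hc⟩ := hπ (a := C.W v * a * (C.W v)⁻¹) (b := a)
      (by rw [map_mul, map_mul, map_inv, hae, ← hφ, hzfix])
    exact hexact _ a ha c hc
  obtain ⟨ζ, hζ, hζv⟩ := C.W_conj (-v.2, v.1) v
  set X : M3 := C.wMat v with hXdef
  set Y : M3 := C.wMat (-v.2, v.1) with hYdef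
  have hζ1 : (ζ : F) ≠ 1 := by
    rw [hζv]
    exact fun e => (by decide : ∀ v : V, v ≠ 0 → v.1 * v.1 - v.2 * -v.2 ≠ 0) v hv (C.ch_eq_one e)
  have hζ3 : (ζ : F) ^ 3 = 1 := by
    rw [hζv, pow_succ, pow_two, ← C.ch_add, ← C.ch_add,
      (by decide : ∀ k : T3, k + k + k = 0), C.ch_zero]
  have hYX : Y * X = (ζ : F) • (X * Y) := by
    have h1 := congrArg (fun g : G3 => (g : M3)) (mul_inv_eq_iff_eq_mul.1 hζ)
    simpa [Units.val_mul, coe_sc, Cube.coe_W, mul_assoc] using h1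
  set a1 : G3 := C.W (-v.2, v.1) * a * (C.W (-v.2, v.1))⁻¹ with ha1
  set a2 : G3 := C.W (-v.2, v.1) * a1 * (C.W (-v.2, v.1))⁻¹ with ha2
  have ha1L : a1 ∈ L := hnorm _ (hW _) a ha
  have ha2L : a2 ∈ L := hnorm _ (hW _) a1 ha1L
  have hY3 : C.W (-v.2, v.1) * a2 * (C.W (-v.2, v.1))⁻¹ = a := by
    rw [ha2, ha1, show C.W (-v.2, v.1) * (C.W (-v.2, v.1) * (C.W (-v.2, v.1) * a * (C.W (-v.2, v.1))⁻¹) *
      (C.W (-v.2, v.1))⁻¹) * (C.W (-v.2, v.1))⁻¹ =
      C.W (-v.2, v.1) ^ 3 * a * (C.W (-v.2, v.1) ^ 3)⁻¹ by rw [pow_succ, pow_two]; group, C.W_cube, one_mul, inv_one, mul_one]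
  have mY : ∀ b b' : G3, C.W (-v.2, v.1) * b * (C.W (-v.2, v.1))⁻¹ = b' →
      Y * (b : M3) = (b' : M3) * Y := fun b b' h => by
    rw [mul_inv_eq_iff_eq_mul] at h
    exact congrArg (fun g : G3 => (g : M3)) h
  have mX : ∀ b b' : G3, C.W (-v.2, v.1) * b * (C.W (-v.2, v.1))⁻¹ = b' →
      X * (b : M3) = (b : M3) * X → X * (b' : M3) = (b' : M3) * X := by
    intro b b' h hb
    have hY := mY b b' h
    have hYu : IsUnit Y := (C.W (-v.2, v.1)).isUnit
    apply hYu.mul_left_injective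
    show X * (b' : M3) * Y = (b' : M3) * X * Y
    have hXY : X * Y = (ζ : F)⁻¹ • (Y * X) := by rw [hYX, smul_smul, inv_mul_cancel₀ ζ.ne_zero, one_smul]
    calc X * (b' : M3) * Y = X * Y * (b : M3) := by rw [mul_assoc, ← hY, mul_assoc]
      _ = (ζ : F)⁻¹ • (Y * (b : M3) * X) := by rw [hXY, Matrix.smul_mul, mul_assoc, hb, mul_assoc]
      _ = (b' : M3) * X * Y := by rw [hY, mul_assoc (b' : M3), ← Matrix.mul_smul, ← hXY, mul_assoc]
  have hXa : X * (a : M3) = (a : M3) * X := congrArg (fun g : G3 => (g : M3)) hX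
  have hXa1 := mX a a1 rfl hXa
  have hXa2 := mX a1 a2 rfl hXa1
  -- commuting with the two translations is being scalar
  have commutant : ∀ T : M3, T * X = X * T → T * Y = Y * T → T = T 0 0 • 1 := by
    intro T h1 h2
    refine scalar_of_comm C fun u => ?_
    let B : Set V := {u | T * C.wMat u = C.wMat u * T}
    have hadd : ∀ u w, u ∈ B → w ∈ B → u + w ∈ B := by
      intro u w (hu : _ = _) (hw : _ = _)
      show T * C.wMat (u + w) = C.wMat (u + w) * T
      have h0 : C.ch (u.2 * w.1) • (T * C.wMat (u + w)) = C.ch (u.2 * w.1) • (C.wMat (u + w) * T) := by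
        rw [← Matrix.mul_smul, ← Matrix.smul_mul, ← C.wMat_mul, ← mul_assoc, hu, mul_assoc, hw, mul_assoc]
      exact smul_right_injective M3 (C.ch_ne_zero _) h0
    have key : ∀ v u : V, v ≠ 0 → u = v + v + v ∨ u = v ∨ u = v + v ∨ u = (-v.2, v.1) ∨
        u = (-v.2, v.1) + (-v.2, v.1) ∨ u = v + (-v.2, v.1) ∨ u = v + v + (-v.2, v.1) ∨
        u = v + (-v.2, v.1) + (-v.2, v.1) ∨ u = v + v + ((-v.2, v.1) + (-v.2, v.1)) := by decide
    show u ∈ B
    have m1 : v ∈ B := h1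
    have m2 : (-v.2, v.1) ∈ B := h2
    rcases key v u hv with e | e | e | e | e | e | e | e | e <;> rw [e] <;>
      repeat (first | assumption | apply hadd)
  -- the three eigenparts
  have part : ∀ z : F, z ^ 3 = 1 → ∀ P : M3, X * P = P * X → Y * P = z • (P * Y) →
      ∃ t : F, ((a : M3) + z • (a1 : M3) + z ^ 2 • (a2 : M3)) * P = t • 1 := by
    intro z hz P hP1 hP2
    set T : M3 := (a : M3) + z • (a1 : M3) + z ^ 2 • (a2 : M3) with hT
    have hYT : Y * T = z ^ 2 • (T * Y) := by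
      simp only [hT, Matrix.mul_add, Matrix.add_mul, Matrix.mul_smul, Matrix.smul_mul, mY a a1 rfl,
        mY a1 a2 rfl, mY a2 a hY3, smul_add, smul_smul]
      rw [show z ^ 2 * z = 1 by linear_combination hz, show z ^ 2 * z ^ 2 = z by linear_combination z * hz,
        one_smul]
      abel
    refine ⟨_, commutant _ ?_ ?_⟩
    · rw [mul_assoc, ← hP1, ← mul_assoc, ← mul_assoc]
      simp only [hT, Matrix.mul_add, Matrix.add_mul, Matrix.mul_smul, Matrix.smul_mul, hXa, hXa1, hXa2]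
    · rw [← mul_assoc Y, hYT, Matrix.smul_mul, mul_assoc T Y, hP2, Matrix.mul_smul, smul_smul,
        show z ^ 2 * z = 1 by linear_combination hz, one_smul, mul_assoc]
  have hXX : Y * (X * X) = ((ζ : F) ^ 2) • (X * X * Y) := by
    rw [← mul_assoc, hYX, Matrix.smul_mul, mul_assoc X Y, hYX, Matrix.mul_smul, smul_smul, mul_assoc X X,
      pow_two]
  obtain ⟨t0, ht0⟩ := part 1 (one_pow 3) 1 (by simp) (by simp)
  obtain ⟨t1, ht1⟩ := part ζ hζ3 X rfl hYX
  obtain ⟨t2, ht2⟩ := part ((ζ : F) ^ 2) (by rw [← pow_mul, mul_comm, pow_mul, hζ3, one_pow]) (X * X)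
    (by rw [mul_assoc]) hXX
  have hX3 : X * X * X = 1 := by
    have h1 := congrArg (fun g : G3 => (g : M3)) (C.W_cube v)
    simpa [pow_succ, Cube.coe_W] using h1
  have f1 : (a : M3) + (ζ : F) • (a1 : M3) + (ζ : F) ^ 2 • (a2 : M3) = t1 • (X * X) := by
    have h1 := congrArg (· * (X * X)) ht1
    simp only [Matrix.smul_mul, one_mul] at h1
    rwa [mul_assoc, ← mul_assoc X X X, hX3, mul_one] at h1
  have f2 : (a : M3) + (ζ : F) ^ 2 • (a1 : M3) + (((ζ : F) ^ 2) ^ 2) • (a2 : M3) = t2 • X := by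
    have h1 := congrArg (· * X) ht2
    simp only [Matrix.smul_mul, one_mul] at h1
    rwa [mul_assoc, hX3, mul_one] at h1
  rw [mul_one, one_smul, one_pow, one_smul] at ht0
  have h3ne := C.three_ne_zero
  have hz2 : (ζ : F) ^ 2 + (ζ : F) + 1 = 0 :=
    (mul_eq_zero.1 (show ((ζ : F) - 1) * ((ζ : F) ^ 2 + (ζ : F) + 1) = 0 by linear_combination hζ3)).resolve_left
      (sub_ne_zero.2 hζ1)
  have hsum : (3 : F) • (a : M3) = t0 • 1 + t1 • (X * X) + t2 • X := by
    rw [← ht0, ← f1, ← f2]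
    ext i j
    simp only [Matrix.smul_apply, Matrix.add_apply, smul_eq_mul]
    linear_combination (-(((a1 : M3) i j + (a2 : M3) i j))) * hz2 - (ζ : F) * (a2 : M3) i j * hζ3
  have hbX : ∀ b ∈ L, (b : M3) * X = X * (b : M3) := by
    intro b hb
    have c0 : (b : M3) * (a : M3) = (a : M3) * b := congrArg (fun g : G3 => (g : M3)) (hab b hb a ha)
    have c1 : (b : M3) * (a1 : M3) = (a1 : M3) * b := congrArg (fun g : G3 => (g : M3)) (hab b hb a1 ha1L)
    have c2 : (b : M3) * (a2 : M3) = (a2 : M3) * b := congrArg (fun g : G3 => (g : M3)) (hab b hb a2 ha2L)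
    by_cases ht : t1 = 0
    · by_cases hu : t2 = 0
      · exfalso
        rw [ht, hu, zero_smul, zero_smul, add_zero, add_zero] at hsum
        have ha' : (a : M3) = (t0 / 3) • 1 := by
          rw [div_eq_inv_mul, mul_smul, ← hsum, smul_smul, inv_mul_cancel₀ h3ne, one_smul]
        have hne0 : t0 / 3 ≠ 0 := fun e => a.ne_zero (by rw [ha', e, zero_smul])
        exact hns ⟨Units.mk0 _ hne0, Units.ext (by rw [coe_sc, Units.val_mk0]; exact ha')⟩
      · refine smul_right_injective M3 hu ?_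
        show t2 • ((b : M3) * X) = t2 • (X * (b : M3))
        rw [← Matrix.mul_smul, ← Matrix.smul_mul, ← f2]
        simp only [Matrix.mul_add, Matrix.add_mul, Matrix.mul_smul, Matrix.smul_mul, c0, c1, c2]
    · have hb2 : (b : M3) * (X * X) = X * X * (b : M3) := by
        refine smul_right_injective M3 ht ?_
        show t1 • ((b : M3) * (X * X)) = t1 • (X * X * (b : M3))
        rw [← Matrix.mul_smul, ← Matrix.smul_mul t1 (X * X) (b : M3), ← f1]
        simp only [Matrix.mul_add, Matrix.add_mul, Matrix.mul_smul, Matrix.smul_mul, c0, c1, c2]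
      have hX4 : X = X * X * (X * X) := by rw [← mul_assoc (X * X) X X, hX3, one_mul]
      rw [hX4, ← mul_assoc, hb2, mul_assoc, hb2, ← mul_assoc]
  refine hx₀ns ?_
  have hY' : (x₀ : M3) * Y = Y * (x₀ : M3) := by
    set b : G3 := C.S⁻¹ * x₀ * C.S with hb
    have hbL : b ∈ L := by
      have := hnorm _ (inv_mem hS) x₀ hx₀
      rwa [inv_inv] at this
    have h1 : b * C.W v = C.W v * b := Units.ext (hbX b hbL)
    have hS' : C.S * C.W v * C.S⁻¹ =
        sc (Units.mk0 _ (C.ch_ne_zero (-(v.1 * v.2)))) * C.W (-v.2, v.1) := by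
      rw [C.S_W, mul_inv_cancel_right]
    have h2 : x₀ * (C.S * C.W v * C.S⁻¹) = C.S * C.W v * C.S⁻¹ * x₀ := by
      calc x₀ * (C.S * C.W v * C.S⁻¹) = C.S * (b * C.W v) * C.S⁻¹ := by rw [hb]; group
        _ = C.S * C.W v * C.S⁻¹ * x₀ := by rw [h1, hb]; group
    rw [hS', ← mul_assoc, ← sc_comm, mul_assoc, mul_assoc] at h2
    exact congrArg (fun g : G3 => (g : M3)) (mul_left_cancel h2)
  have hsc := commutant _ (hbX x₀ hx₀) hY'
  have hne0 : (x₀ : M3) 0 0 ≠ 0 := fun e => x₀.ne_zero (by rw [hsc, e, zero_smul])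
  exact ⟨Units.mk0 _ hne0, Units.ext (by rw [coe_sc, Units.val_mk0]; exact hsc)⟩

end Cfsg.Agent.H76.SUThreeCSix
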