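import Cfsg.Agent.H76.SUThreeCSix.NoInv
import Cfsg.Agent.H76.SUThreeCSix.End
import Cfsg.Agent.Cores.GlaubermanZStar
import Cfsg.Agent.S0205

/-!
A proper subgroup of `SU₃(p)` over the Heisenberg normaliser lies in it.
-/

set_option autoImplicit false

open Cfsg

namespace Cfsg.Agent.H76.SUThreeCSix

open Matrix
open scoped commutatorElement
open Cfsg.Agent.H1.HeisThree (Cube sc sc_comm sc_one)

variable {F : Type*} [Field F] [Fintype F] {p : ℕ} {D : Fld F p} {M : Subgroup (GL (ZMod 3) F)}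

local notation "T3" => ZMod 3
local notation "V" => ZMod 3 × ZMod 3
local notation "M3" => Matrix (ZMod 3) (ZMod 3) F
local notation "G3" => GL (ZMod 3) F

omit [Fintype F] in
theorem trace_conj_eq (g x : G3) : ((g * x * g⁻¹ : G3) : M3).trace = (x : M3).trace := by
  rw [Units.val_mul, Units.val_mul, Matrix.trace_mul_cycle, Units.inv_mul, one_mul]

omit [Fintype F] in
theorem trace_flip_eq (C : Cube F) : (C.flip : M3).trace = -1 := by
  rw [Matrix.trace, H1.HeisThree.sum3]
  simp [Cube.coe_flip, H1.HeisThree.neg_one_T3, H1.HeisThree.neg_two_T3,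
    H1.HeisThree.one_ne_two_T3, H1.HeisThree.two_ne_one_T3]

/-- The overgroup normalises the Heisenberg group modulo scalars. -/
theorem Over.le_NZ (h : Over D M) : M ≤ D.C.NZ := by
  classical
  have h2 := D.two_ne_zero
  have hS : D.C.S ∈ M := by
    have := h.Sj 0
    rwa [pow_zero, one_mul, inv_one, mul_one] at this
  have hflip : D.C.flip ∈ M := by rw [← D.C.S_mul_S]; exact mul_mem hS hS
  have hne : D.C.flip ≠ 1 := fun h => by
    have := congrArg (fun u : G3 => (u : M3) 0 0) h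
    simp [Cube.coe_flip] at this
    exact h2 (by linear_combination -this)
  let u : M := ⟨D.C.flip, hflip⟩
  have hord : orderOf u = 2 :=
    orderOf_eq_prime (Subtype.ext (show D.C.flip ^ 2 = 1 by rw [pow_two, D.C.flip_mul_flip]))
      (fun h => hne (congrArg Subtype.val h))
  have hiso : Cfsg.IsIsolatedInvolution u := by
    refine ⟨hord, fun g hg => Subtype.ext ?_⟩
    set x : G3 := (g : G3) * D.C.flip * (g : G3)⁻¹ with hx
    have hxH : x ∈ D.C.Hgrp :=
      Subgroup.mem_centralizer_singleton_iff.2 (congrArg Subtype.val hg.eq).symm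
    show x = D.C.flip
    by_contra hxne
    refine h.no_inv (t := x) ⟨mul_mem (mul_mem g.2 hflip) (inv_mem g.2), hxH, ?_, ?_, hxne⟩
    · rw [hx, show (g : G3) * D.C.flip * (g : G3)⁻¹ * ((g : G3) * D.C.flip * (g : G3)⁻¹)
        = (g : G3) * (D.C.flip * D.C.flip) * (g : G3)⁻¹ by group, D.C.flip_mul_flip, mul_one,
        mul_inv_cancel]
    · rw [hx, trace_conj_eq, trace_flip_eq]
  have hz := Cores.zStarProp (Cores.uniqueInvolutionCase Cores.quaternionCase) M u hiso
  set O : Subgroup G3 := (Cfsg.oddCore M).map M.subtype with hO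
  have hOM : O ≤ M := Subgroup.map_subtype_le _
  have hcomO : ∀ g ∈ M, D.C.flip * g * D.C.flip * g⁻¹ ∈ O := fun g hg =>
    ⟨_, hz ⟨g, hg⟩, by simp [u, D.C.flip_inv]⟩
  haveI hsolv : Group.IsSolvable O := by
    refine Cfsg.Agent.S0205.result ?_
    rw [hO, ← Nat.card_congr (Subgroup.equivMapOfInjective _ M.subtype M.subtype_injective).toEquiv]
    exact Cores.odd_card_oddCore
  let Ls : ℕ → Subgroup G3 := fun k => (derivedSeries O k).map O.subtype
  have hLO : ∀ k, Ls k ≤ O := fun k => Subgroup.map_subtype_le _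
  have hnorm : ∀ k, ∀ g ∈ M, ∀ l ∈ Ls k, g * l * g⁻¹ ∈ Ls k := by
    intro k
    induction k with
    | zero =>
      rintro g hg _ ⟨⟨o, ho⟩, -, rfl⟩
      obtain ⟨o', ho', rfl⟩ := ho
      exact ⟨⟨_, ⟨⟨g, hg⟩ * o' * ⟨g, hg⟩⁻¹,
        (inferInstance : (Cfsg.oddCore M).Normal).conj_mem o' ho' _, rfl⟩⟩,
        by simp [derivedSeries_zero], rfl⟩
    | succ k ih =>
      intro g hg l hl
      have hmap : Ls (k + 1) = ⁅Ls k, Ls k⁆ := by
        show (derivedSeries O (k + 1)).map O.subtype = _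
        rw [derivedSeries_succ, Subgroup.map_commutator]
      rw [hmap] at hl ⊢
      have hle : (Ls k).map (MulAut.conj g).toMonoidHom ≤ Ls k := by
        rintro _ ⟨x, hx, rfl⟩
        simpa using ih g hg x hx
      have h1 : (MulAut.conj g).toMonoidHom l ∈ (⁅Ls k, Ls k⁆).map (MulAut.conj g).toMonoidHom :=
        ⟨l, hl, rfl⟩
      rw [Subgroup.map_commutator] at h1
      simpa using Subgroup.commutator_mono hle hle h1
  have hW0 : ∃ x ∈ Ls 0, ¬ ∃ c : Fˣ, x = sc c := by
    refine ⟨D.C.flip * D.C.W (1, 0) * D.C.flip * (D.C.W (1, 0))⁻¹,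
      ⟨⟨_, hcomO _ (h.W _)⟩, by simp [derivedSeries_zero], rfl⟩, ?_⟩
    rintro ⟨c, hc⟩
    rw [D.C.flip_W, mul_assoc (D.C.W _), D.C.flip_mul_flip, mul_one, mul_inv_eq_iff_eq_mul] at hc
    have h1 := D.C.sc_W_inj (c := 1) (d := c) (by rw [sc_one, one_mul]; exact hc)
    exact (by decide : -((1 : T3), (0 : T3)) ≠ (1, 0)) h1.2
  obtain ⟨n, hn⟩ := Group.IsSolvable.solvable (G := O)
  have hlast : ∃ k, ¬ (∃ x ∈ Ls k, ¬ ∃ c : Fˣ, x = sc c) := by
    refine ⟨n, ?_⟩
    rintro ⟨x, hx, hns⟩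
    have hbot : Ls n = ⊥ := by
      show (derivedSeries O n).map O.subtype = ⊥
      rw [hn, Subgroup.map_bot]
    rw [hbot, Subgroup.mem_bot] at hx
    exact hns ⟨1, by rw [hx, sc_one]⟩
  obtain ⟨m, hm⟩ : ∃ m, Nat.find hlast = m + 1 := by
    refine ⟨Nat.find hlast - 1, (Nat.sub_add_cancel (Nat.one_le_iff_ne_zero.2 fun h0 => ?_)).symm⟩
    exact (Nat.find_eq_zero hlast).1 h0 hW0
  have hbad : ∀ x ∈ Ls (m + 1), ∃ c : Fˣ, x = sc c := by
    have := Nat.find_spec hlast
    rw [hm] at this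
    intro x hx
    by_contra hns
    exact this ⟨x, hx, hns⟩
  have hgood : ∃ x ∈ Ls m, ¬ ∃ c : Fˣ, x = sc c :=
    not_not.1 (Nat.find_min hlast (by omega))
  refine le_NZ_of_scalar_commutators D.C h.W hS (le_trans (hLO m) hOM) (hnorm m) hgood ?_
  intro a ha b hb
  obtain ⟨c, hc⟩ := hbad ⁅a, b⁆ (by
    show _ ∈ (derivedSeries O (m + 1)).map O.subtype
    rw [derivedSeries_succ, Subgroup.map_commutator]
    exact Subgroup.commutator_mem_commutator ha hb)
  exact ⟨c, by rw [← hc, commutatorElement_def]; group⟩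

end Cfsg.Agent.H76.SUThreeCSix
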