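import Cfsg.Agent.H76.SUThreeCSix.Torus

/-!
The flip is the only involution of trace minus one in its centraliser.
-/

set_option autoImplicit false

open Cfsg

namespace Cfsg.Agent.H76.SUThreeCSix

open Matrix
open Cfsg.Agent.H1.HeisThree (Cube sum3 neg_one_T3 neg_two_T3 one_ne_two_T3 two_ne_one_T3
  zero_ne_two_T3 two_ne_zero_T3)

variable {F : Type*} [Field F] [Fintype F] {p : ℕ} {D : Fld F p} {M : Subgroup (GL (ZMod 3) F)}

local notation "T3" => ZMod 3
local notation "M3" => Matrix (ZMod 3) (ZMod 3) F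
local notation "G3" => GL (ZMod 3) F
local notation "M2" => Matrix (Fin 2) (Fin 2) F
local notation "S2" => Matrix.SpecialLinearGroup (Fin 2) F

/-- The eigenvalue relations of the short elements. -/
def Yset (y : F) : Prop := y = 0 ∨ y ^ 2 = 1 ∨ y ^ 2 = 4 ∨ y ^ 4 - 3 * y ^ 2 + 1 = 0

/-- An involution of the centraliser other than the flip. -/
structure IsInv (D : Fld F p) (M : Subgroup (GL (ZMod 3) F)) (t : G3) : Prop where
  mem : t ∈ M
  cen : t ∈ D.C.Hgrp
  sq : t * t = 1
  tr : (t : M3).trace = -1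
  ne : t ≠ D.C.flip

theorem exists_sqrt (D : Fld F p) {x : F} (hx : D.σ x = x) : IsSquare x := by
  by_cases h0 : x = 0
  · rw [h0]; exact IsSquare.zero
  have := D.big
  have hch : ringChar F ≠ 2 := by
    have := D.charP
    rw [ringChar.eq F p]; omega
  rw [FiniteField.isSquare_iff hch h0]
  have h1 : x ^ (p - 1) = 1 := by
    refine mul_right_cancel₀ h0 ?_
    rw [← pow_succ, Nat.sub_add_cancel (by omega : 1 ≤ p), one_mul, ← D.σ_apply, hx]
  obtain ⟨k, hk⟩ := D.prime.odd_of_ne_two (by omega)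
  rw [D.card, show p ^ 2 / 2 = (p - 1) * (k + 1) by
    subst hk
    rw [show (2 * k + 1) ^ 2 = 2 * ((2 * k + 1 - 1) * (k + 1)) + 1 by simp only [add_tsub_cancel_right]; ring]
    omega, pow_mul, h1, one_pow]

omit [Fintype F] in
theorem mul_flip_apply (C : Cube F) (t : G3) (i j : T3) : ((t * C.flip : G3) : M3) i j = -(t : M3) i (-j) := by
  rw [Units.val_mul, Matrix.mul_apply, Finset.sum_eq_single (-j)]
  · simp [Cube.coe_flip]
  · intro k _ hk; simp [Cube.coe_flip, hk]
  · simp

/-- The form of an involution of the centraliser. -/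
structure Coord (t : G3) (D : Fld F p) : Prop where
  real : D.σ ((t : M3) 0 0) = (t : M3) 0 0
  norm : (t : M3) 0 0 * (t : M3) 0 0 + 2 * (t : M3) 0 1 * D.σ ((t : M3) 0 1) = 1
  e02 : (t : M3) 0 2 = (t : M3) 0 1
  e10 : (t : M3) 1 0 = D.σ ((t : M3) 0 1)
  e20 : (t : M3) 2 0 = D.σ ((t : M3) 0 1)
  e11 : 2 * (t : M3) 1 1 = -1 - (t : M3) 0 0
  e12 : 2 * (t : M3) 1 2 = 1 - (t : M3) 0 0
  e21 : (t : M3) 2 1 = (t : M3) 1 2
  e22 : (t : M3) 2 2 = (t : M3) 1 1

theorem IsInv.coord (h : Over D M) {t : G3} (ht : IsInv D M t) : Coord t D := by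
  have h2 := D.two_ne_zero
  obtain ⟨a1, a2, a3, a4⟩ := D.C.sym_facts ht.cen
  let T : D.C.Hgrp := ⟨t, ht.cen⟩
  have hTT : T * T = 1 := Subtype.ext ht.sq
  have hinv : ∀ i j, (t : M3) i j = D.σ ((t : M3) j i) := by
    intro i j
    rw [← D.U3_inv_apply (h.le ht.mem), inv_eq_of_mul_eq_one_right ht.sq]
  have hphi := congrArg (fun g : D.C.Hgrp => (D.C.phi g : M2)) hTT
  simp only [map_mul, map_one, Units.val_mul, Units.val_one, Cube.coe_phi] at hphi
  have hmu := congrArg (fun g : D.C.Hgrp => (D.C.mu g : F)) hTT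
  simp only [map_mul, map_one, Units.val_mul, Units.val_one, Cube.coe_mu] at hmu
  have htr := ht.tr
  rw [Matrix.trace, sum3] at htr
  simp only [Matrix.diag_apply, a4] at htr
  have p00 := congrFun (congrFun hphi 0) 0
  have p01 := congrFun (congrFun hphi 0) 1
  have p11 := congrFun (congrFun hphi 1) 1
  simp [T, Cube.phiMat, Matrix.mul_apply, Fin.sum_univ_two] at p00 p01 p11
  set c := (t : M3) 0 0 with hc
  set β := (t : M3) 0 1 with hβ
  set u := (t : M3) 1 1 with hu
  set v := (t : M3) 1 2 with hv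
  have e10 : (t : M3) 1 0 = D.σ β := hinv 1 0
  rw [e10] at p00 p11
  have hmu' : (u - v) * (u - v) = 1 := hmu
  rcases mul_self_eq_one_iff.1 hmu' with hm | hm
  · exfalso
    have hd : c + (u + v) = -2 := by linear_combination htr - hm
    have hβ0 : β = 0 := by
      have h4 : (4 : F) * β = 0 := by linear_combination 2 * β * hd - p01
      have h4' : (4 : F) ≠ 0 := by rw [show (4 : F) = 2 * 2 by norm_num]; exact mul_ne_zero h2 h2
      exact (mul_eq_zero.1 h4).resolve_left h4'
    simp only [hβ0, map_zero, mul_zero, add_zero, zero_add] at p00 p11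
    have hc1 : c = -1 := by
      refine (mul_self_eq_one_iff.1 p00).resolve_left fun e => ?_
      have h3 : u + v = -3 := by linear_combination hd - e
      rw [h3] at p11
      have h8 : (2 : F) * (2 * 2) = 0 := by linear_combination p11
      exact mul_ne_zero h2 (mul_ne_zero h2 h2) h8
    have huv : u + v = -1 := by linear_combination hd - hc1
    refine ht.ne (congrArg Subtype.val (D.C.ext_H h2 (g := T) (h := ⟨_, D.C.flip_mem⟩) ?_ ?_))
    · rw [D.C.phi_flip, Cube.coe_phi]
      ext i j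
      fin_cases i <;> fin_cases j <;> simp [T, Cube.phiMat, ← hc, ← hβ, ← hu, ← hv, e10, hβ0, hc1, huv]
    · rw [D.C.mu_flip, Cube.coe_mu]
      exact hm
  · exact
      { real := (hinv 0 0).symm
        norm := by linear_combination p00
        e02 := a1
        e10 := e10
        e20 := a2.trans e10
        e11 := by linear_combination htr
        e12 := by linear_combination htr - 2 * hm
        e21 := a3
        e22 := a4 }

theorem IsInv.mul_flip (h : Over D M) {t : G3} (ht : IsInv D M t) :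
    IsInv D M (t * D.C.flip) ∧ ((t * D.C.flip : G3) : M3) 0 0 = -(t : M3) 0 0 := by
  have hcomm : D.C.flip * t = t * D.C.flip := (Subgroup.mem_centralizer_singleton_iff.1 ht.cen).symm
  have h4 : (4 : F) ≠ 0 := by
    have := D.two_ne_zero
    rw [show (4 : F) = 2 * 2 by norm_num]; exact mul_ne_zero this this
  refine ⟨⟨mul_mem ht.mem (by
      have h0 := h.Sj 0
      rw [pow_zero, one_mul, inv_one, mul_one] at h0
      rw [← D.C.S_mul_S]; exact mul_mem h0 h0), mul_mem ht.cen D.C.flip_mem, ?_, ?_, ?_⟩, ?_⟩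
  · rw [mul_assoc, ← mul_assoc D.C.flip, hcomm, mul_assoc, D.C.flip_mul_flip, mul_one, ht.sq]
  · obtain ⟨-, -, -, -, -, e11, e12, e21, e22⟩ := ht.coord h
    rw [Matrix.trace, sum3]
    simp only [Matrix.diag_apply, mul_flip_apply, neg_zero, neg_one_T3, neg_two_T3, e21]
    linear_combination -e12
  · intro e
    have : t = 1 := mul_right_cancel (e.trans (one_mul _).symm)
    have := ht.tr
    rw [‹t = 1›, Units.val_one, Matrix.trace_one] at this
    simp at this
    exact h4 (by linear_combination this)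
  · rw [mul_flip_apply, neg_zero]

theorem IsInv.conj {t g : G3} (ht : IsInv D M t) (hg : g ∈ M) (hgH : g ∈ D.C.Hgrp) :
    IsInv D M (g * t * g⁻¹) := by
  refine ⟨mul_mem (mul_mem hg ht.mem) (inv_mem hg), mul_mem (mul_mem hgH ht.cen) (inv_mem hgH), ?_, ?_, ?_⟩
  · rw [show g * t * g⁻¹ * (g * t * g⁻¹) = g * (t * t) * g⁻¹ by group, ht.sq, mul_one, mul_inv_cancel]
  · rw [Units.val_mul, Units.val_mul, Matrix.trace_mul_cycle, Units.inv_mul, one_mul, ht.tr]
  · intro e
    apply ht.ne
    rw [mul_inv_eq_iff_eq_mul, (Subgroup.mem_centralizer_singleton_iff.1 hgH).symm] at e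
    exact mul_left_cancel e

/-- The value at one vertex, and at the three others. -/
noncomputable def xs (D : Fld F p) (t : G3) (j : ℕ) : F :=
  -(t : M3) 0 0 + 2 * D.C.ω ^ j * (t : M3) 0 1 + 2 * (D.C.ω ^ j) ^ 2 * D.σ ((t : M3) 0 1)

theorem IsInv.sums (h : Over D M) {t : G3} (ht : IsInv D M t) :
    3 * (t : M3) 0 0 + xs D t 0 + xs D t 1 + xs D t 2 = 0 ∧
      (3 * (t : M3) 0 0) ^ 2 + xs D t 0 ^ 2 + xs D t 1 ^ 2 + xs D t 2 ^ 2 = 12 := by
  have hn := (ht.coord h).norm
  set c := (t : M3) 0 0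
  set β := (t : M3) 0 1
  have hw := D.C.sq_add
  have hc := D.C.cube
  have hw4 : D.C.ω ^ 4 = D.C.ω := by linear_combination D.C.ω * hc
  constructor
  · simp only [xs]
    linear_combination (2 * β + 2 * D.σ β) * hw + 2 * D.σ β * D.C.ω * hc
  · simp only [xs]
    linear_combination 12 * hn + (4 * β ^ 2 + 4 * D.σ β ^ 2 - 4 * c * β - 4 * c * D.σ β) * hw +
      (4 * β ^ 2 * D.C.ω + 4 * D.σ β ^ 2 * (D.C.ω + D.C.ω ^ 5 + D.C.ω ^ 2) + 8 * β * D.σ β * (2 + D.C.ω ^ 3) -
        4 * c * D.σ β * D.C.ω) * hc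

theorem conj_X (D : Fld F p) {c β γ : F} (j : ℕ) :
    (3 : F) • ((D.X j : M2) * !![c, 2 * β; γ, -c] * -(D.X j : M2)) =
      !![-c + 2 * D.C.ω ^ j * β + 2 * (D.C.ω ^ j) ^ 2 * γ,
          2 * (2 * (D.C.ω ^ j) ^ 2 * c + 2 * D.C.ω ^ j * γ - β);
        2 * D.C.ω ^ j * c + 2 * (D.C.ω ^ j) ^ 2 * β - γ,
          -(-c + 2 * D.C.ω ^ j * β + 2 * (D.C.ω ^ j) ^ 2 * γ)] := by
  have hs := D.C.s_sq
  have hu := ω_pow_three D j
  set u := D.C.ω ^ j
  rw [coe_X, ← smul_neg, Matrix.smul_mul, Matrix.mul_smul, Matrix.smul_mul, smul_smul, smul_smul]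
  rw [show (3 : F) * D.C.s * D.C.s = -1 by linear_combination hs, neg_one_smul]
  ext i k
  fin_cases i <;> fin_cases k <;> simp [Matrix.mul_apply, Fin.sum_univ_two]
  · linear_combination (-2 * c) * hu
  · linear_combination (4 * u * γ) * hu
  · ring
  · linear_combination (2 * c) * hu

/-- The two moves to new involutions. -/
theorem IsInv.moves (h : Over D M) {t : G3} (ht : IsInv D M t) (j : ℕ) :
    (∃ t', IsInv D M t' ∧ 3 * (t' : M3) 0 0 = xs D t j) ∧
    (∃ t', IsInv D M t' ∧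
      3 * (t' : M3) 0 0 = ((3 * (t : M3) 0 0 + xs D t j) ^ 2 / 3 - 2) * xs D t j - 3 * (t : M3) 0 0) ∧
    ∃ t', IsInv D M t' ∧
      3 * (t' : M3) 0 0 = ((3 * (t : M3) 0 0 + xs D t j) ^ 2 / 3 - 2) * (3 * (t : M3) 0 0) - xs D t j := by
  obtain ⟨g, hgS, hgphi, -⟩ := phi_conj_S D j
  have hgM : (g : G3) ∈ M := hgS ▸ h.Sj j
  have ht' := ht.conj hgM g.2
  set s := (g : G3) * t * (g : G3)⁻¹ with hs
  let T : D.C.Hgrp := ⟨t, ht.cen⟩
  have hc := ht.coord h
  have hc' := ht'.coord h
  set c := (t : M3) 0 0 with hc_def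
  set β := (t : M3) 0 1 with hβ_def
  have hT : (D.C.phi T : M2) = !![c, 2 * β; D.σ β, -c] := by
    rw [Cube.coe_phi]
    ext i k
    fin_cases i <;> fin_cases k <;> simp [T, Cube.phiMat, ← hc_def, ← hβ_def, hc.e10]
    refine mul_left_cancel₀ D.two_ne_zero ?_
    linear_combination hc.e11 + hc.e12
  have hginv : ((D.C.phi g)⁻¹ : GL (Fin 2) F).val = -(D.X j : M2) := by
    refine Units.inv_eq_of_mul_eq_one_left ?_
    rw [hgphi, Matrix.neg_mul, X_sq, neg_neg]
  have hS : (D.C.phi ⟨s, ht'.cen⟩ : M2) = (D.X j : M2) * !![c, 2 * β; D.σ β, -c] * -(D.X j : M2) := by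
    rw [show (⟨s, ht'.cen⟩ : D.C.Hgrp) = g * T * g⁻¹ from rfl, map_mul, map_mul, map_inv, Units.val_mul,
      Units.val_mul, hgphi, hT, hginv]
  have e := conj_X D (c := c) (β := β) (γ := D.σ β) j
  rw [← hS, Cube.coe_phi] at e
  have e00 := congrFun (congrFun e 0) 0
  have e01 := congrFun (congrFun e 0) 1
  have e10 := congrFun (congrFun e 1) 0
  simp [Cube.phiMat] at e00 e01 e10
  have x00 : 3 * (s : M3) 0 0 = xs D t j := e00
  refine ⟨⟨s, ht', x00⟩, ⟨_, ht.conj ht'.mem ht'.cen, ?_⟩, ⟨_, ht'.conj ht.mem ht.cen, ?_⟩⟩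
  all_goals rw [inv_eq_of_mul_eq_one_right (by first | exact ht'.sq | exact ht.sq)]
  all_goals rw [Units.val_mul, Units.val_mul, Matrix.mul_apply, sum3]
  all_goals simp only [Matrix.mul_apply, sum3, hc.e02, hc.e10, hc.e20, hc.e21, hc.e22, hc'.e02, hc'.e10,
    hc'.e20, hc'.e21, hc'.e22, ← hc_def, ← hβ_def]
  all_goals rw [← x00]
  all_goals set c' := (s : M3) 0 0 with hc'_def
  all_goals set b' := (s : M3) 0 1 with hb'_def
  all_goals set u := D.C.ω ^ j with hu_def
  all_goals rw [hc'.e10] at e10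
  all_goals have k1 : 3 * c' = -c + 2 * u * β + 2 * u ^ 2 * D.σ β := e00
  all_goals have k2 : 3 * b' = 2 * u ^ 2 * c + 2 * u * D.σ β - β :=
    mul_left_cancel₀ D.two_ne_zero (by linear_combination e01)
  all_goals have k3 : 3 * D.σ b' = 2 * u * c + 2 * u ^ 2 * β - D.σ β := e10
  all_goals have hu3 : u ^ 3 = 1 := ω_pow_three D j
  all_goals have h3 : (3 : F) ≠ 0 := D.C.three_ne_zero
  all_goals
    have hd : 2 * (c * c' + β * D.σ b' + D.σ β * b') = (3 * c + 3 * c') ^ 2 / 3 - 2 := by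
      refine mul_left_cancel₀ h3 ?_
      rw [mul_sub, mul_div_cancel₀ _ h3]
      linear_combination 2 * c * k1 + 2 * β * k3 + 2 * D.σ β * k2 - (3 * c + 3 * c' + 2 * (c + u * β + u ^ 2 * D.σ β)) * k1
        + (-6 : F) * hc.norm + (-4 : F) * D.σ β ^ 2 * u * hu3 + (-8 : F) * β * D.σ β * hu3
    rw [← hd]
  · linear_combination -3 * c * hc'.norm + 3 * (b' * D.σ b') * (hc.e11 + hc.e12)
  · linear_combination -3 * c' * hc.norm + 3 * (β * D.σ β) * (hc'.e11 + hc'.e12)

/-- The trace of one pair is short. -/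
theorem IsInv.allowed_one (h : Over D M) {t : G3} (ht : IsInv D M t) :
    Yset ((1 - 3 * (t : M3) 0 0) / 2) := by
  have := D.charP
  have := Fact.mk D.prime
  have h2 := D.two_ne_zero
  have hco := ht.coord h
  set c := (t : M3) 0 0 with hc_def
  set β := (t : M3) 0 1 with hβ_def
  by_cases hc1 : c * c = 1
  · rcases mul_self_eq_one_iff.1 hc1 with e | e <;> rw [e]
    · exact Or.inr (Or.inl (by field_simp; ring))
    · exact Or.inr (Or.inr (Or.inl (by field_simp; ring)))
  have hp1 : 1 + c ≠ 0 := fun e => hc1 (by linear_combination (c - 1) * e)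
  have hm1 : c - 1 ≠ 0 := fun e => hc1 (by linear_combination (c + 1) * e)
  have hβ : β ≠ 0 := fun e => hc1 (by have := hco.norm; rw [← hβ_def, e, map_zero, ← hc_def] at this; linear_combination this)
  have hcσ : D.σ c = c := hco.real
  have hratio : D.σ ((c - 1) / (1 + c)) = (c - 1) / (1 + c) := by
    rw [map_div₀, map_sub, map_add, map_one, hcσ]
  obtain ⟨b, hb⟩ := exists_sqrt D hratio
  have hbb : b * b * (1 + c) = c - 1 := by rw [← hb, div_mul_cancel₀ _ hp1]
  have hb0 : b ≠ 0 := fun e => hm1 (by rw [← hbb, e]; ring)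
  have he : b * b - 1 ≠ 0 := fun e => h2 (by linear_combination hbb - (1 + c) * e)
  obtain ⟨ε, hε, hεσ⟩ : ∃ ε : F, (ε = 1 ∨ ε = -1) ∧ D.σ b = ε * b := by
    have h1 : D.σ b * D.σ b = b * b := by
      rw [← map_mul, ← hb, hratio]
    rcases mul_self_eq_mul_self_iff.1 h1 with e | e
    · exact ⟨1, Or.inl rfl, by rw [e, one_mul]⟩
    · exact ⟨-1, Or.inr rfl, by rw [e]; ring⟩
  set m := b * (1 + c) / β with hm_def
  have hm : m ≠ 0 := div_ne_zero (mul_ne_zero hb0 hp1) hβ
  have hmβ : m * β = b * (1 + c) := div_mul_cancel₀ _ hβ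
  have hγ : 2 * β * D.σ β = 1 - c * c := by have := hco.norm; rw [← hc_def, ← hβ_def] at this; linear_combination this
  set τ : M2 := !![1, b; -b, -1] with hτ
  have hT : sym2 m τ = (b * b - 1) • (t : M3) := by
    obtain ⟨r0, r1, r2⟩ := sym2_row0 m τ
    obtain ⟨u0, u1, u2⟩ := sym2_row1 m τ
    obtain ⟨v0, v1, v2⟩ := sym2_row2 m τ
    have h01 : 2 * 1 * -b / m = (b * b - 1) * β := by
      rw [div_eq_iff hm]; linear_combination -(b * b - 1) * hmβ - b * hbb
    have h10 : m * b = (b * b - 1) * D.σ β := by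
      refine mul_left_cancel₀ (mul_ne_zero h2 hβ) ?_
      linear_combination 2 * b * hmβ - (b * b - 1) * hγ + (c + 1) * hbb
    have h11 : 1 = (b * b - 1) * (t : M3) 1 1 := mul_left_cancel₀ h2 (by linear_combination -(b * b - 1) * hco.e11 + hbb)
    have h12 : b * b = (b * b - 1) * (t : M3) 1 2 := mul_left_cancel₀ h2 (by linear_combination -(b * b - 1) * hco.e12 + hbb)
    ext i j
    rw [Matrix.smul_apply, smul_eq_mul]
    obtain rfl | rfl | rfl : i = 0 ∨ i = 1 ∨ i = 2 := by revert i; decide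
    all_goals obtain rfl | rfl | rfl : j = 0 ∨ j = 1 ∨ j = 2 := by revert j; decide
    · rw [r0, ← hc_def]; simp [hτ]; linear_combination -hbb
    · rw [r1, ← hβ_def]; simp [hτ]; linear_combination h01
    · rw [r2, hco.e02, ← hβ_def]; simp [hτ]; linear_combination h01
    · rw [u0, hco.e10, ← hβ_def]; simp [hτ]; linear_combination h10
    · rw [u1]; simp [hτ]; linear_combination h11
    · rw [u2]; simp [hτ]; linear_combination h12
    · rw [v0, hco.e20, ← hβ_def]; simp [hτ]; linear_combination h10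
    · rw [v1, hco.e21]; simp [hτ]; linear_combination h12
    · rw [v2, hco.e22]; simp [hτ]; linear_combination h11
  set A0 : M2 := !![D.C.ω ^ 2, 0; 0, D.C.ω] with hA0
  let A : S2 := ⟨A0, by rw [hA0, Matrix.det_fin_two_of]; linear_combination D.C.cube⟩
  let B : S2 := ⟨(1 - b * b)⁻¹ • (τ * A0 * τ), by
    rw [Matrix.det_smul, Matrix.det_mul, Matrix.det_mul, hτ, hA0, Fintype.card_fin,
      Matrix.det_fin_two_of, Matrix.det_fin_two_of]
    have he1 : (1 - b * b)⁻¹ * (1 - b * b) = 1 :=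
      inv_mul_cancel₀ fun e => he (by linear_combination -e)
    linear_combination ((1 - b * b)⁻¹ ^ 2 * (1 - b * b) ^ 2) * D.C.cube + ((1 - b * b)⁻¹ * (1 - b * b) + 1) * he1⟩
  have hAsym : sym2 m A0 = D.C.wMat (0, 1) := by
    obtain ⟨r0, r1, r2⟩ := sym2_row0 m A0
    obtain ⟨u0, u1, u2⟩ := sym2_row1 m A0
    obtain ⟨v0, v1, v2⟩ := sym2_row2 m A0
    ext i j
    obtain rfl | rfl | rfl : i = 0 ∨ i = 1 ∨ i = 2 := by revert i; decide
    all_goals obtain rfl | rfl | rfl : j = 0 ∨ j = 1 ∨ j = 2 := by revert j; decide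
    all_goals simp only [r0, r1, r2, u0, u1, u2, v0, v1, v2]
    all_goals
      simp [hA0, Cube.wMat_apply, Cube.ch_zero, Cube.ch_one,
        Cube.ch_two, one_ne_two_T3, two_ne_one_T3, zero_ne_two_T3, two_ne_zero_T3]
    all_goals
      first
      | linear_combination D.C.cube
      | linear_combination D.C.ω * D.C.cube
      | ring
  have hBsym : sym2 m (B : M2) = (t : M3) * D.C.wMat (0, 1) * (t : M3) := by
    show sym2 m ((1 - b * b)⁻¹ • (τ * A0 * τ)) = _
    rw [sym2_smul, sym2_mul hm, sym2_mul hm, hT, hAsym, Matrix.smul_mul, Matrix.smul_mul, Matrix.mul_smul,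
      smul_smul, smul_smul]
    have he1 : (1 - b * b)⁻¹ * (1 - b * b) = 1 :=
      inv_mul_cancel₀ fun e => he (by linear_combination -e)
    rw [show (1 - b * b)⁻¹ * (1 - b * b)⁻¹ * (b * b - 1) * (b * b - 1) = 1 by
      linear_combination ((1 - b * b)⁻¹ * (1 - b * b) + 1) * he1, one_smul]
  have hAM : A ∈ symPre hm M := ⟨D.C.W (0, 1), h.W _, hAsym.symm⟩
  have hBM : B ∈ symPre hm M := ⟨t * D.C.W (0, 1) * t, mul_mem (mul_mem ht.mem (h.W _)) ht.mem, by
    rw [hBsym, Units.val_mul, Units.val_mul, Cube.coe_W]⟩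
  set H := Subgroup.closure ({A, B} : Set S2) with hH
  have hHM : H ≤ symPre hm M := by
    rw [hH, Subgroup.closure_le]
    rintro X (rfl | rfl)
    exacts [hAM, hBM]
  have hAH : A ∈ H := Subgroup.subset_closure (by simp)
  have hBH : B ∈ H := Subgroup.subset_closure (by simp)
  have hy : ((A * B : S2) : M2).trace = (1 - 3 * c) / 2 := by
    rw [Matrix.SpecialLinearGroup.coe_mul]
    show (A0 * ((1 - b * b)⁻¹ • (τ * A0 * τ))).trace = _
    rw [Matrix.mul_smul, Matrix.trace_smul, Matrix.trace_fin_two, smul_eq_mul]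
    have he1 : (1 - b * b)⁻¹ * (1 - b * b) = 1 :=
      inv_mul_cancel₀ fun e => he (by linear_combination -e)
    rw [eq_div_iff h2]
    simp [hA0, hτ, Matrix.mul_apply, Fin.sum_univ_two]
    linear_combination 2 * (1 - b * b)⁻¹ * (D.C.ω - 2 * b * b) * D.C.cube +
      2 * (1 - b * b)⁻¹ * D.C.sq_add - 3 * (1 - b * b)⁻¹ * hbb + (1 - 3 * c) * he1
  have cube1 : ∀ X : S2, (X : M2).trace = -1 → proj X ^ 3 = 1 := fun X hX => by
    rw [← map_pow]
    refine proj_eq_one.2 (Or.inl ?_)
    rw [(sl_pow_facts X hX).2.1]; simp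
  rcases small_or_p p H with ⟨U, hU, hU1, hUp⟩ | hsmall
  · exfalso
    have hε2 : ε * ε = 1 := by rcases hε with rfl | rfl <;> ring
    have hεfix : D.σ ε = ε := by rcases hε with rfl | rfl <;> simp
    have hHreal : ∀ X ∈ H, IsReal D ε (X : M2) := by
      intro X hX
      induction hX using Subgroup.closure_induction with
      | mem X hX =>
        rcases hX with rfl | rfl
        · show IsReal D ε A0
          exact ⟨by simp [hA0, D.σ_ω, ← pow_mul]; linear_combination -(D.C.ω : F) * D.C.cube, by simp [hA0]⟩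
        · show IsReal D ε ((1 - b * b)⁻¹ • (τ * A0 * τ))
          refine IsReal.smul ?_ (by
            rw [map_inv₀, map_sub, map_mul, map_one, hεσ]
            congr 1
            linear_combination -(b * b) * hε2)
          have hw4 : D.σ (D.C.ω ^ 2) = D.C.ω := by
            rw [map_pow, D.σ_ω]; linear_combination D.C.ω * D.C.cube
          constructor <;> simp [hτ, hA0, Matrix.mul_apply, Fin.sum_univ_two, D.σ_ω, hεσ]
          · linear_combination -(D.C.ω) * D.C.cube + D.C.ω ^ 2 * b ^ 2 * hε2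
          · linear_combination -(b * D.C.ω * ε ^ 2) * D.C.cube - (b * D.C.ω - b * D.C.ω ^ 2) * hε2
      | one => rw [Matrix.SpecialLinearGroup.coe_one]; exact IsReal.one ε
      | mul X Y _ _ hX hY => rw [Matrix.SpecialLinearGroup.coe_mul]; exact hX.mul hε2 hεfix hY
      | inv X _ hX => exact hX.inv hε2 hεfix
    have hne : 1 - b * b ≠ 0 := fun e => he (by linear_combination -e)
    have hww : D.C.ω ^ 2 - D.C.ω ≠ 0 := fun e => D.C.root_ne_zero (by linear_combination -e + D.C.sq_add)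
    refine h.no_real hm hε fun X hX => hHM (real_mem hε2 hεfix hHreal hAH hBH
      (a := D.C.ω ^ 2) (b := D.C.ω) rfl (fun e => hww (sub_eq_zero.2 e)) ?_ ?_ hU hU1 hUp X hX)
    · intro e
      apply mul_ne_zero hb0 hww
      have e' : ((1 - b * b)⁻¹ • (τ * A0 * τ) : M2) 0 1 = 0 := e
      simp [hτ, hA0, Matrix.mul_apply, Fin.sum_univ_two, hne] at e'
      linear_combination e'
    · intro e
      apply mul_ne_zero hb0 hww
      have e' : ((1 - b * b)⁻¹ • (τ * A0 * τ) : M2) 1 0 = 0 := e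
      simp [hτ, hA0, Matrix.mul_apply, Fin.sum_univ_two, hne] at e'
      linear_combination -e'
  · refine trace_of_short hy ?_
    have ha3 : proj A ^ 3 = 1 := cube1 A (by
      show A0.trace = -1
      rw [Matrix.trace_fin_two]; simp [hA0]; linear_combination D.C.sq_add)
    have hb3 : proj B ^ 3 = 1 := cube1 B (by
      show ((1 - b * b)⁻¹ • (τ * A0 * τ)).trace = -1
      have hne : 1 - b * b ≠ 0 := fun e => he (by linear_combination -e)
      rw [Matrix.trace_smul, Matrix.trace_fin_two, smul_eq_mul]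
      have he1 := inv_mul_cancel₀ hne
      simp [hτ, hA0, Matrix.mul_apply, Fin.sum_univ_two]
      linear_combination (1 - b * b)⁻¹ * (1 - b * b) * D.C.sq_add - he1)
    have := small_mul_three hsmall (a := (⟨proj A, Subgroup.mem_map_of_mem _ hAH⟩ : H.map proj))
      (b := ⟨proj B, Subgroup.mem_map_of_mem _ hBH⟩) (Subtype.ext ha3) (Subtype.ext hb3)
    simpa [Subtype.ext_iff, ← map_mul, ← map_pow] using this

theorem eq_of_poly {x : F} (h2 : (2 : F) ≠ 0) (h35 : (3 : F) ≠ 0 ∧ (5 : F) ≠ 0) (h11 : (11 : F) ≠ 0)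
    (h : Yset ((1 - x) / 2)) (h' : Yset ((1 + x) / 2)) : x ^ 2 = 1 ∨ x ^ 2 = 9 ∨ x ^ 2 = 5 := by
  obtain ⟨h3, h5⟩ := h35
  have key : ∀ x : F, Yset ((1 - x) / 2) → ((1 - x) / 2 = 0 ∨ (1 - x) / 2 = 1 ∨ (1 - x) / 2 = -1 ∨
      (1 - x) / 2 = 2 ∨ (1 - x) / 2 = -2) ∨ x ^ 2 = 5 ∨
      ((1 - x) / 2) ^ 2 + (1 - x) / 2 - 1 = 0 := by
    intro x h
    rcases h with h | h | h | h
    · exact Or.inl (Or.inl h)
    · rcases mul_self_eq_one_iff.1 ((pow_two _).symm.trans h) with e | e <;> simp [e]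
    · have h4 : ((1 - x) / 2) * ((1 - x) / 2) = 2 * 2 := by linear_combination h
      rcases mul_self_eq_mul_self_iff.1 h4 with e | e <;> simp [e]
    · set y := (1 - x) / 2 with hy
      have hxy : x = 1 - 2 * y := by rw [hy]; field_simp; ring
      have : (y ^ 2 - y - 1) * (y ^ 2 + y - 1) = 0 := by linear_combination h
      rcases mul_eq_zero.1 this with e | e
      · exact Or.inr (Or.inl (by rw [hxy]; linear_combination 4 * e))
      · exact Or.inr (Or.inr e)
  have h'' : Yset ((1 - -x) / 2) := by rwa [sub_neg_eq_add]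
  have conv : ∀ x : F, ((1 - x) / 2 = 0 ∨ (1 - x) / 2 = 1 ∨ (1 - x) / 2 = -1 ∨ (1 - x) / 2 = 2 ∨
      (1 - x) / 2 = -2) → x = 1 ∨ x = -1 ∨ x = 3 ∨ x = -3 ∨ x = 5 := by
    intro x h
    rcases h with e | e | e | e | e <;> rw [div_eq_iff h2] at e
    · exact Or.inl (by linear_combination -e)
    · exact Or.inr (Or.inl (by linear_combination -e))
    · exact Or.inr (Or.inr (Or.inl (by linear_combination -e)))
    · exact Or.inr (Or.inr (Or.inr (Or.inl (by linear_combination -e))))
    · exact Or.inr (Or.inr (Or.inr (Or.inr (by linear_combination -e))))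
  have bad5 : ∀ x : F, x = 5 → Yset ((1 - -x) / 2) → False := by
    intro x hx h
    subst hx
    rw [show (1 - -5 : F) / 2 = 3 by field_simp; ring] at h
    rcases h with h | h | h | h
    · exact h3 h
    · exact mul_ne_zero h2 (mul_ne_zero h2 h2) (by linear_combination h)
    · exact h5 (by linear_combination h)
    · exact mul_ne_zero h5 h11 (by linear_combination h)
  rcases key x h with e | e | e
  · rcases conv x e with e | e | e | e | e <;> [left; left; (right; left); (right; left); exfalso]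
    · rw [e]; ring
    · rw [e]; ring
    · rw [e]; ring
    · rw [e]; ring
    · exact bad5 x e h''
  · exact Or.inr (Or.inr e)
  rcases key (-x) h'' with e' | e' | e'
  · rcases conv (-x) e' with e' | e' | e' | e' | e'
    · exact Or.inl (by linear_combination (x - 1) * (-e'))
    · exact Or.inl (by linear_combination -(x + 1) * e')
    · exact Or.inr (Or.inl (by linear_combination (-x + 3) * e'))
    · exact Or.inr (Or.inl (by linear_combination (-x - 3) * e'))
    · exact (bad5 (-x) e' (by rwa [neg_neg])).elim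
  · exact Or.inr (Or.inr (by linear_combination e'))
  · exfalso
    rw [sub_neg_eq_add] at e'
    field_simp at e e'
    have hx : (4 : F) * 2 * x = 0 := by linear_combination e' - e
    have h40 : (4 : F) * 2 ≠ 0 := by
      rw [show (4 : F) = 2 * 2 by norm_num]; exact mul_ne_zero (mul_ne_zero h2 h2) h2
    rw [(mul_eq_zero.1 hx).resolve_left h40] at e
    exact one_ne_zero (show (1 : F) = 0 by linear_combination -e)

theorem IsInv.allowed (h : Over D M) {t : G3} (ht : IsInv D M t) :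
    Yset ((1 - 3 * (t : M3) 0 0) / 2) ∧ Yset ((1 + 3 * (t : M3) 0 0) / 2) := by
  refine ⟨ht.allowed_one h, ?_⟩
  obtain ⟨ht', e⟩ := ht.mul_flip h
  have := ht'.allowed_one h
  rwa [e, mul_neg, sub_neg_eq_add] at this

/-- No homology of order four. -/
theorem Over.no_quarter (h : Over D M) {g : D.C.Hgrp} (hg : (g : G3) ∈ M) {ν : F} (hν : ν * ν = -1)
    (hphi : (D.C.phi g : M2) = ν • 1) (hmu : (D.C.mu g : F) = -1) : False := by
  have h2 := D.two_ne_zero
  obtain ⟨a1, a2, a3, a4⟩ := D.C.sym_facts g.2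
  rw [Cube.coe_phi] at hphi
  rw [Cube.coe_mu] at hmu
  have p00 := congrFun (congrFun hphi 0) 0
  have p01 := congrFun (congrFun hphi 0) 1
  have p10 := congrFun (congrFun hphi 1) 0
  have p11 := congrFun (congrFun hphi 1) 1
  simp [Cube.phiMat, Cube.muVal] at p00 p01 p10 p11 hmu
  have q01 : ((g : G3) : M3) 0 1 = 0 := by simpa [h2] using p01
  have hgSt : (g : G3) ∈ St h := ⟨hg, q01, a1.trans q01, p10, a2.trans p10⟩
  have hZSt : D.C.W (0, 1) ∈ St h := ⟨h.W _, by simp [Cube.coe_W, Cube.wMat_apply, zero_ne_two_T3,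
    two_ne_zero_T3]⟩
  let Z : St h := ⟨_, hZSt⟩
  let G' : St h := ⟨_, hgSt⟩
  let A : S2 := ⟨!![D.C.ω, 0; 0, D.C.ω ^ 2], by rw [Matrix.det_fin_two_of]; linear_combination D.C.cube⟩
  have hZ : bRep h Z = (A : M2) := by
    ext i k
    fin_cases i <;> fin_cases k <;>
      simp [bRep, Z, A, Cube.coe_W, Cube.wMat_apply, Cube.ch_one, Cube.ch_two, one_ne_two_T3, two_ne_one_T3]
  have hν0 : ν ≠ 0 := fun e => by rw [e, mul_zero] at hν; exact one_ne_zero (show (1 : F) = 0 by linear_combination hν)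
  set q := (D.C.ω ^ 2 - D.C.ω) / (2 * ν) with hq
  have hw : (D.C.ω ^ 2 - D.C.ω) * (D.C.ω ^ 2 - D.C.ω) = -3 := by
    linear_combination (D.C.ω ^ 2 - 3 * D.C.ω + 3) * D.C.sq_add
  let B : S2 := ⟨!![-1 / 2, q; -q, -1 / 2], by
    rw [Matrix.det_fin_two_of, hq]
    field_simp
    linear_combination hw - 3 * hν⟩
  have hG : bRep h G' = !![(ν - 1) / 2, (ν + 1) / 2; (ν + 1) / 2, (ν - 1) / 2] := by
    have e1 : ((g : G3) : M3) 1 1 = (ν - 1) / 2 := by
      rw [eq_div_iff h2]; linear_combination p11 + hmu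
    have e2 : ((g : G3) : M3) 1 2 = (ν + 1) / 2 := by
      rw [eq_div_iff h2]; linear_combination p11 - hmu
    ext i k
    fin_cases i <;> fin_cases k <;> simp [bRep, G', a3, a4, e1, e2]
  have hA : A ∈ KE h := ⟨Z, 1, one_ne_zero, by rw [one_smul, hZ]⟩
  have hB : B ∈ KE h := by
    refine ⟨G' * Z * G'⁻¹, 1, one_ne_zero, ?_⟩
    rw [one_smul]
    have key : (B : M2) * bRep h G' = bRep h G' * bRep h Z := by
      rw [hG, hZ]
      ext i k
      fin_cases i <;> fin_cases k <;> simp [A, B, hq, Matrix.mul_apply, Fin.sum_univ_two] <;> field_simp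
      · linear_combination (ν + 1) * D.C.sq_add - (2 * D.C.ω + 1) * hν
      · linear_combination (1 - ν) * D.C.sq_add - (1 + 2 * D.C.ω ^ 2) * hν
      · linear_combination (1 - ν) * D.C.sq_add - (1 + 2 * D.C.ω) * hν
      · linear_combination (ν + 1) * D.C.sq_add - (1 + 2 * D.C.ω ^ 2) * hν
    rw [map_mul, map_mul, ← key, Matrix.mul_assoc, ← map_mul, mul_inv_cancel, map_one, Matrix.mul_one]
  have hsm := h.KE_small
  have htr : ((A * B : S2) : M2).trace = 1 / 2 := by
    rw [Matrix.SpecialLinearGroup.coe_mul, Matrix.trace_fin_two]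
    simp [A, B, Matrix.mul_apply, Fin.sum_univ_two]
    field_simp
    linear_combination -D.C.sq_add
  have cube1 : ∀ X : S2, (X : M2).trace = -1 → proj X ^ 3 = 1 := fun X hX => by
    rw [← map_pow]
    refine proj_eq_one.2 (Or.inl ?_)
    rw [(sl_pow_facts X hX).2.1]; simp
  have := small_mul_three hsm (a := (⟨proj A, Subgroup.mem_map_of_mem _ hA⟩ : (KE h).map proj))
    (b := ⟨proj B, Subgroup.mem_map_of_mem _ hB⟩)
    (Subtype.ext (cube1 A (by rw [Matrix.trace_fin_two]; simp [A]; linear_combination D.C.sq_add)))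
    (Subtype.ext (cube1 B (by rw [Matrix.trace_fin_two]; simp [B]; field_simp; ring)))
  have hY := trace_of_short htr (by simpa [Subtype.ext_iff, ← map_mul, ← map_pow] using this)
  have h3 := D.C.three_ne_zero
  have h5 : (5 : F) ≠ 0 := by
    have := D.cast_ne_zero (n := 5) fun e => by have := Nat.le_of_dvd (by omega) e; have := D.big; omega
    exact_mod_cast this
  rcases hY with e | e | e | e <;> field_simp at e
  · exact one_ne_zero (e.trans (mul_zero _))
  · exact h3 (by linear_combination -e)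
  · exact mul_ne_zero h3 h5 (by linear_combination -e)
  · exact h5 (by linear_combination e)

end Cfsg.Agent.H76.SUThreeCSix
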