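import Cfsg.Agent.H76.SUThreeCSix.Core
import Cfsg.Agent.H99.HeisUnitary
import Cfsg.Prelude.Def_GeometricClasses

/-!
The normaliser of a group of order 27 and exponent three is maximal in `SU₃(p)`.
-/

set_option autoImplicit false

open Cfsg

namespace Cfsg.Agent.H76.SUThreeCSix

open Matrix
open Cfsg.Agent.H1.HeisThree (Cube sc sc_mul sc_one sc_comm sc_pow sc_inj coe_sc conj_sc_mul)

variable {F : Type*} [Field F]

local notation "T3" => ZMod 3
local notation "V" => ZMod 3 × ZMod 3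
local notation "M3" => Matrix (ZMod 3) (ZMod 3) F
local notation "G3" => GL (ZMod 3) F
local notation "G" => GL (Fin 3) F
local notation "SM3" => Matrix (Fin 3) (Fin 3) F

/-- The scalar multiples of order dividing three of the Heisenberg translations. -/
def Rg (C : Cube F) : Subgroup G3 where
  carrier := {g | ∃ (c : Fˣ) (v : V), c ^ 3 = 1 ∧ g = sc c * C.W v}
  one_mem' := ⟨1, 0, one_pow 3, by rw [sc_one, C.W_zero, one_mul]⟩
  mul_mem' := by
    rintro _ _ ⟨c, v, hc, rfl⟩ ⟨d, w, hd, rfl⟩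
    refine ⟨c * d * Units.mk0 _ (C.ch_ne_zero (v.2 * w.1)), v + w, ?_, ?_⟩
    · rw [mul_pow, mul_pow, hc, hd, one_mul, one_mul]
      apply Units.ext
      rw [Units.val_pow_eq_pow_val, Units.val_mk0, Units.val_one, pow_succ, pow_two, ← C.ch_add,
        ← C.ch_add, (by decide : ∀ k : T3, k + k + k = 0), C.ch_zero]
    · calc sc c * C.W v * (sc d * C.W w) = sc c * (C.W v * sc d) * C.W w := by group
        _ = sc c * sc d * (C.W v * C.W w) := by rw [← sc_comm]; group
        _ = _ := by rw [C.W_mul, sc_mul, sc_mul]; group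
  inv_mem' := by
    rintro g ⟨c, v, hc, rfl⟩
    refine ⟨c⁻¹ * (Units.mk0 _ (C.ch_ne_zero (v.2 * -v.1)))⁻¹, -v, ?_, ?_⟩
    · rw [mul_pow, inv_pow, inv_pow, hc, inv_one, one_mul, inv_eq_one]
      apply Units.ext
      rw [Units.val_pow_eq_pow_val, Units.val_mk0, Units.val_one, pow_succ, pow_two, ← C.ch_add,
        ← C.ch_add, (by decide : ∀ k : T3, k + k + k = 0), C.ch_zero]
    · refine inv_eq_of_mul_eq_one_right ?_
      calc sc c * C.W v * (sc (c⁻¹ * (Units.mk0 _ (C.ch_ne_zero (v.2 * -v.1)))⁻¹) * C.W (-v))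
          = sc c * (C.W v * sc (c⁻¹ * (Units.mk0 _ (C.ch_ne_zero (v.2 * -v.1)))⁻¹)) * C.W (-v) := by group
        _ = sc c * sc (c⁻¹ * (Units.mk0 _ (C.ch_ne_zero (v.2 * -v.1)))⁻¹) * (C.W v * C.W (-v)) := by
          rw [← sc_comm]; group
        _ = 1 := by
          rw [C.W_mul, add_neg_cancel, C.W_zero, mul_one, ← sc_mul, ← sc_mul, Prod.fst_neg,
            mul_inv_cancel_left, inv_mul_cancel, sc_one]

/-- The Fourier element has determinant one. -/
theorem det_S (C : Cube F) : (C.S : M3).det = 1 := by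
  have hA : (C.S : M3) = ((!![C.s, C.s, C.s; C.s, C.s * C.ω, C.s * C.ω ^ 2;
      C.s, C.s * C.ω ^ 2, C.s * C.ω] : SM3) : M3) := by
    ext i j
    obtain rfl | rfl | rfl : i = 0 ∨ i = 1 ∨ i = 2 := by revert i; decide
    all_goals obtain rfl | rfl | rfl : j = 0 ∨ j = 1 ∨ j = 2 := by revert j; decide
    all_goals
      simp [Cube.coe_S, Cube.ch_zero, Cube.ch_one, Cube.ch_two, show (2 : T3) * 2 = 1 from rfl]
    all_goals rfl
  rw [hA]
  show Matrix.det (!![C.s, C.s, C.s; C.s, C.s * C.ω, C.s * C.ω ^ 2;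
      C.s, C.s * C.ω ^ 2, C.s * C.ω] : SM3) = 1
  rw [Matrix.det_fin_three]
  simp
  have hs : C.s * (1 + 2 * C.ω) = 1 := inv_mul_cancel₀ C.root_ne_zero
  linear_combination -C.s_sq - 3 * C.s * C.s * hs - C.s ^ 3 * C.ω * C.cube +
    3 * C.s ^ 3 * C.sq_add

/-- The diagonal translation. -/
theorem wMat_diag (C : Cube F) :
    C.wMat (0, 1) = ((Matrix.diagonal ![1, C.ω, C.ω ^ 2] : SM3) : M3) := by
  ext i j
  obtain rfl | rfl | rfl : i = 0 ∨ i = 1 ∨ i = 2 := by revert i; decide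
  all_goals obtain rfl | rfl | rfl : j = 0 ∨ j = 1 ∨ j = 2 := by revert j; decide
  all_goals
    simp [Cube.wMat_apply, Cube.ch_zero, Cube.ch_one, Cube.ch_two, show (2 : T3) ≠ 0 by decide,
      show (2 : T3) ≠ 1 by decide, show (0 : T3) ≠ 2 by decide, show (1 : T3) ≠ 2 by decide]
  all_goals rfl

/-- The shift. -/
theorem wMat_shift (C : Cube F) : C.wMat (1, 0) = ((H99.shift3 : SM3) : M3) := by
  ext i j
  obtain rfl | rfl | rfl : i = 0 ∨ i = 1 ∨ i = 2 := by revert i; decide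
  all_goals obtain rfl | rfl | rfl : j = 0 ∨ j = 1 ∨ j = 2 := by revert j; decide
  all_goals
    simp [Cube.wMat_apply, Cube.ch_zero, H99.shift3, show (1 : T3) + 1 = 2 from rfl,
      show (2 : T3) + 1 = 0 from rfl, show (2 : T3) ≠ 0 by decide, show (0 : T3) ≠ 2 by decide,
      show (2 : T3) ≠ 1 by decide, show (1 : T3) ≠ 2 by decide]
  all_goals rfl

variable [Fintype F] {p : ℕ}

/-- Not every element of determinant one of the unitary group normalises the Heisenberg group. -/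
theorem exists_not_mem_NZ (D : Fld F p) :
    ∃ g ∈ D.U3, (g : M3).det = 1 ∧ g ∉ D.C.NZ := by
  obtain ⟨a, ha⟩ := exists_primRoot D (d := p + 1) ⟨p - 1, by
    have := D.big
    rw [← Nat.sq_sub_sq p 1, one_pow]⟩
  have ha1 : a * D.σ a = 1 := by rw [D.σ_apply, ← pow_succ', ha.pow_eq_one]
  have ha0 : a ≠ 0 := fun e => by rw [e, zero_mul] at ha1; exact zero_ne_one ha1
  have hb1 : a⁻¹ * D.σ a⁻¹ = 1 := by rw [map_inv₀, ← mul_inv, ha1, inv_one]
  let dvec : T3 → F := fun i => if i = 0 then a else if i = 1 then a⁻¹ else 1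
  let g : G3 :=
    { val := Matrix.diagonal dvec
      inv := Matrix.diagonal fun i => (dvec i)⁻¹
      val_inv := by
        rw [Matrix.diagonal_mul_diagonal, ← Matrix.diagonal_one]
        congr 1; funext i
        refine mul_inv_cancel₀ ?_
        simp only [dvec]; split_ifs <;> simp [ha0]
      inv_val := by
        rw [Matrix.diagonal_mul_diagonal, ← Matrix.diagonal_one]
        congr 1; funext i
        refine inv_mul_cancel₀ ?_
        simp only [dvec]; split_ifs <;> simp [ha0] }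
  refine ⟨g, D.mem_U3.2 fun i j => ?_, ?_, ?_⟩
  · simp only [g, Matrix.diagonal_apply, apply_ite D.σ, map_zero, ite_mul, zero_mul,
      Finset.sum_ite_eq', Finset.mem_univ, if_true]
    split_ifs with h
    · subst h
      obtain rfl | rfl | rfl : i = 0 ∨ i = 1 ∨ i = 2 := by revert i; decide
      · simpa [dvec] using ha1
      · simpa [dvec] using hb1
      · simp [dvec, show (2 : T3) ≠ 0 by decide, show (2 : T3) ≠ 1 by decide]
    · simp
  · show (Matrix.diagonal dvec).det = 1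
    rw [Matrix.det_diagonal, show (Finset.univ : Finset T3) = {0, 1, 2} by decide,
      Finset.prod_insert (by decide), Finset.prod_insert (by decide), Finset.prod_singleton]
    simp [dvec, ha0, show (2 : T3) ≠ 0 by decide, show (2 : T3) ≠ 1 by decide]
  · rintro ⟨σ, hσ⟩
    obtain ⟨c, hc⟩ := hσ (1, 0)
    rw [mul_inv_eq_iff_eq_mul] at hc
    have key : ∀ i j : T3, dvec i * D.C.wMat (1, 0) i j = (c : F) * D.C.wMat (σ (1, 0)) i j * dvec j := by
      intro i j
      have := congrArg (fun g : G3 => (g : M3) i j) hc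
      simpa [g, Units.val_mul, coe_sc, Cube.coe_W, Matrix.diagonal_mul, Matrix.mul_diagonal] using this
    have hw : (σ (1, 0)).1 = 1 := by
      by_contra hne
      have := key 1 0
      rw [Cube.wMat_apply, Cube.wMat_apply, if_pos (by decide), if_neg (by
        rw [zero_add]; exact fun e => hne e.symm)] at this
      simp [dvec, Cube.ch_zero, ha0] at this
    have e1 := key 1 0
    have e2 := key 2 1
    rw [Cube.wMat_apply, Cube.wMat_apply, if_pos (by decide), if_pos (by rw [hw]; decide)] at e1 e2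
    simp [dvec, Cube.ch_zero, show (2 : T3) ≠ 0 by decide, show (2 : T3) ≠ 1 by decide] at e1 e2
    have hk : D.C.ch (σ (1, 0)).2 ^ 3 = 1 := by
      rw [pow_succ, pow_two, ← D.C.ch_add, ← D.C.ch_add,
        (by decide : ∀ k : T3, k + k + k = 0), D.C.ch_zero]
    have hch : D.C.ch (σ (1, 0)).2 = a ^ 3 := by
      field_simp at e1 e2
      linear_combination -(a ^ 2) * e2 + D.C.ch (σ (1, 0)).2 * e1 * 0 - D.C.ch (σ (1, 0)).2 * (-e1) * 1
    have h9 : a ^ 9 = 1 := by rw [show 9 = 3 * 3 from rfl, pow_mul, ← hch, hk]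
    have := Nat.le_of_dvd (by norm_num) (ha.dvd_of_pow_eq_one 9 h9)
    have := D.big
    omega

/-- Clause (7): the normaliser of `3^(1+2)` is maximal in `SU₃(p)`. -/
theorem csix_maximal_three {q : ℕ} (hF : Fintype.card F = q ^ 2) :
    ∀ (p : ℕ) (R : Subgroup (Matrix.GeneralLinearGroup (Fin 3) F)), p.Prime → q = p → p % 3 = 2 →
      11 ≤ p → Cfsg.Geo.IsSymplecticTypeGroup 3 R →
      Cfsg.Geo.ActsAbsolutelyIrreducibly (Cfsg.Geo.matrixSet R) →
      R ≤ Cfsg.Geo.similarityGroup (Cfsg.hermForm 3 F q) → Nat.card R = 27 →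
      Nat.card (Subgroup.center R) = 3 →
      Cfsg.Geo.IsMaximalIn (Cfsg.GU 3 F q ⊓ Cfsg.Geo.specialLinear (Fin 3) F)
        (Cfsg.Geo.subgroupNormalizer R ⊓ (Cfsg.GU 3 F q ⊓ Cfsg.Geo.specialLinear (Fin 3) F)) := by
  classical
  intro p R hp hqp h3 h11 hR _ hRsim hcard hcen
  subst hqp
  have hexp : Monoid.exponent R = 3 := hR.exponent_eq.trans (by norm_num)
  have hcube : ∀ x ∈ R, x ^ 3 = 1 := fun x hx => by
    have h := Monoid.pow_exponent_eq_one (⟨x, hx⟩ : R)
    rw [hexp] at h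
    exact congrArg Subtype.val h
  have hσ1 : ∀ x : F, x ^ q = x → x ^ 3 = 1 → x = 1 := by
    intro x h1 h2
    have e : q = 3 * (q / 3) + 2 := by omega
    rw [e, pow_add, pow_mul, h2, one_pow, one_mul] at h1
    have h0 : x ≠ 0 := by intro e; rw [e] at h2; simp at h2
    exact mul_left_cancel₀ h0 (by rw [mul_one, ← pow_two, h1])
  have hRU : R ≤ Cfsg.GU 3 F q := by
    intro x hx
    obtain ⟨c, hc⟩ := hRsim hx
    have hfix : (c : F) ^ q = c := by
      have h1 := hc (Pi.single 0 1) (Pi.single 0 1)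
      rw [Unitary.herm_single_single hF, if_pos rfl, mul_one] at h1
      rw [← h1]
      exact Unitary.herm_self_fixed hF _
    have hpow : ∀ (k : ℕ) (u v : Fin 3 → F), hermForm 3 F q (((x ^ k : G) : SM3) *ᵥ u)
        (((x ^ k : G) : SM3) *ᵥ v) = (c : F) ^ k * hermForm 3 F q u v := by
      intro k
      induction k with
      | zero => intro u v; simp
      | succ k ih =>
        intro u v
        rw [pow_succ, Units.val_mul, ← Matrix.mulVec_mulVec, ← Matrix.mulVec_mulVec, ih, hc, ← mul_assoc,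
          ← pow_succ]
    have hc3 : (c : F) ^ 3 = 1 := by
      have h1 := hpow 3 (Pi.single 0 1) (Pi.single 0 1)
      rw [hcube x hx, Units.val_one, one_mulVec, Unitary.herm_single_single hF, if_pos rfl, mul_one] at h1
      exact h1.symm
    refine Unitary.mem_GU_iff.2 fun u v => ?_
    rw [hc, hσ1 _ hfix hc3, one_mul]
  have hRna : ¬ IsMulCommutative R := fun h => by
    have htop : Subgroup.center R = ⊤ := eq_top_iff.2 fun x _ =>
      Subgroup.mem_center_iff.2 fun y => mul_comm' y x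
    rw [htop, Subgroup.card_top, hcard] at hcen
    omega
  obtain ⟨ω₀, hω₀⟩ : ∃ w : Fˣ, orderOf w = 3 := by
    have : Fact (Nat.Prime 3) := ⟨Nat.prime_three⟩
    refine exists_prime_orderOf_dvd_card' 3 ?_
    rw [Nat.card_eq_fintype_card, Fintype.card_units, hF]
    obtain ⟨k, rfl⟩ : ∃ k, q = 3 * k + 2 := ⟨q / 3, by omega⟩
    exact ⟨3 * k ^ 2 + 4 * k + 1, by
      rw [show (3 * k + 2) ^ 2 = 3 * (3 * k ^ 2 + 4 * k + 1) + 1 by ring]; omega⟩
  have hω₀3 : (ω₀ : F) ^ 3 = 1 := by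
    rw [← Units.val_pow_eq_pow_val, ← hω₀, pow_orderOf_eq_one, Units.val_one]
  have hω₀1 : (ω₀ : F) ≠ 1 := fun e => by
    rw [orderOf_eq_one_iff.2 (Units.ext e)] at hω₀
    omega
  obtain ⟨d₀⟩ := H99.exists_heisData R hcard hexp hRna _ hω₀3 hω₀1
  obtain ⟨d, hP⟩ := H99.exists_heisData_unitary hF h3 R hRU d₀
  haveI : Finite R := Nat.finite_of_card_ne_zero (by omega)
  let D : Fld F q :=
    { prime := hp, card := hF, three := h3, big := h11
      C := ⟨d.ω, IsPrimitiveRoot.iff_orderOf.2 (orderOf_eq_prime d.hω d.hω1)⟩ }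
  -- the change of frame
  let e : G ≃* G3 := MulAut.conj d.P⁻¹
  have he : ∀ x : G, e x = d.P⁻¹ * x * d.P := fun x => by
    show d.P⁻¹ * x * d.P⁻¹⁻¹ = _
    rw [inv_inv]
  have heU : ∀ x : G, x ∈ Cfsg.GU 3 F q → e x ∈ D.U3 := fun x hx => by
    rw [he]; exact mul_mem (mul_mem (inv_mem hP) hx) hP
  have heU' : ∀ g : G3, g ∈ D.U3 → e.symm g ∈ Cfsg.GU 3 F q := fun g hg => by
    let g' : G := g
    show d.P⁻¹⁻¹ * g' * d.P⁻¹ ∈ _
    rw [inv_inv]; exact mul_mem (mul_mem hP hg) (inv_mem hP)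
  have hdet : ∀ x : G, ((e x : G3) : M3).det = (x : SM3).det := fun x => by
    rw [he]
    exact Matrix.det_units_conj' _ _
  have hdet' : ∀ g : G3, ((e.symm g : G) : SM3).det = (g : M3).det := fun g => by
    rw [← hdet, e.apply_symm_apply]
  have hsl : ∀ x : G, x ∈ Cfsg.Geo.specialLinear (Fin 3) F ↔ (x : SM3).det = 1 := fun x => by
    rw [Cfsg.Geo.specialLinear, MonoidHom.mem_ker, ← Units.val_inj]
    rfl
  have hea : e d.a = D.C.W (0, 1) := by
    rw [he]
    refine Units.ext ?_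
    show ((d.P⁻¹ : G) : SM3) * (d.a : SM3) * (d.P : SM3) = _
    rw [Matrix.mul_assoc, d.hA, ← Matrix.mul_assoc, Units.inv_mul, Matrix.one_mul]
    exact (wMat_diag D.C).symm
  have heb : e d.b = D.C.W (1, 0) := by
    rw [he]
    refine Units.ext ?_
    show ((d.P⁻¹ : G) : SM3) * (d.b : SM3) * (d.P : SM3) = _
    rw [Matrix.mul_assoc, d.hB, ← Matrix.mul_assoc, Units.inv_mul, Matrix.one_mul]
    exact (wMat_shift D.C).symm
  have hRg : ∀ x ∈ R, e x ∈ Rg D.C := by
    intro x hx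
    rw [← d.hgen] at hx
    induction hx using Subgroup.closure_induction with
    | mem x hx =>
      rcases hx with rfl | rfl
      · exact ⟨1, (0, 1), one_pow 3, by rw [hea, sc_one, one_mul]⟩
      · exact ⟨1, (1, 0), one_pow 3, by rw [heb, sc_one, one_mul]⟩
    | one => rw [map_one]; exact one_mem _
    | mul x y _ _ hx hy => rw [map_mul]; exact mul_mem hx hy
    | inv x _ hx => rw [map_inv]; exact inv_mem hx
  have hscR : ∀ c : Fˣ, c ^ 3 = 1 → ∃ x ∈ R, e x = sc c := by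
    intro c hc
    obtain ⟨z, hz, hzv⟩ := d.hscal
    obtain ⟨i, -, hi⟩ := D.C.prim.eq_pow_of_pow_eq_one
      (show ((c : F)) ^ 3 = 1 by rw [← Units.val_pow_eq_pow_val, hc, Units.val_one])
    refine ⟨z ^ i, pow_mem hz i, Units.ext ?_⟩
    rw [map_pow, Units.val_pow_eq_pow_val, he, coe_sc, ← hi]
    show (((d.P⁻¹ : G) : SM3) * (z : SM3) * (d.P : SM3)) ^ i = _
    rw [hzv, Matrix.mul_smul, Matrix.mul_one, Matrix.smul_mul, Units.inv_mul, smul_pow, one_pow]
    rfl
  have hWR : ∀ v : V, ∃ x ∈ R, e x = D.C.W v := by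
    have hadd : ∀ u v, (∃ x ∈ R, e x = D.C.W u) → (∃ x ∈ R, e x = D.C.W v) →
        ∃ x ∈ R, e x = D.C.W (u + v) := by
      rintro u v ⟨x, hx, hxe⟩ ⟨y, hy, hye⟩
      obtain ⟨z, hz, hze⟩ := hscR (Units.mk0 _ (D.C.ch_ne_zero (u.2 * v.1)))⁻¹ (by
        rw [inv_pow, inv_eq_one]
        apply Units.ext
        rw [Units.val_pow_eq_pow_val, Units.val_mk0, Units.val_one, pow_succ, pow_two, ← D.C.ch_add,
          ← D.C.ch_add, (by decide : ∀ k : T3, k + k + k = 0), D.C.ch_zero])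
      exact ⟨z * (x * y), mul_mem hz (mul_mem hx hy), by
        rw [map_mul, map_mul, hze, hxe, hye, D.C.W_mul, ← mul_assoc, ← sc_mul, inv_mul_cancel, sc_one,
          one_mul]⟩
    have m1 : ∃ x ∈ R, e x = D.C.W ((1 : T3), (0 : T3)) := ⟨_, d.hb, heb⟩
    have m2 : ∃ x ∈ R, e x = D.C.W ((0 : T3), (1 : T3)) := ⟨_, d.ha, hea⟩
    intro v
    have key : ∀ u : V, u = (1, 0) + (1, 0) + (1, 0) ∨ u = (1, 0) ∨ u = (1, 0) + (1, 0) ∨ u = (0, 1) ∨
        u = (0, 1) + (0, 1) ∨ u = (1, 0) + (0, 1) ∨ u = (1, 0) + (1, 0) + (0, 1) ∨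
        u = (1, 0) + (0, 1) + (0, 1) ∨ u = (1, 0) + (1, 0) + ((0, 1) + (0, 1)) := by decide
    rcases key v with h | h | h | h | h | h | h | h | h <;> rw [h] <;>
      repeat (first | assumption | apply hadd)
  have hnormR : ∀ g : G3, g ∈ D.C.NZ → e.symm g ∈ Cfsg.Geo.subgroupNormalizer R := by
    intro g hg
    have key : ∀ x ∈ R, e.symm g * x * (e.symm g)⁻¹ ∈ R := by
      intro x hx
      obtain ⟨c, v, hc, hxe⟩ := hRg x hx
      obtain ⟨σ, hσ⟩ := hg
      obtain ⟨c', hc'⟩ := hσ v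
      have hc'3 : c' ^ 3 = 1 := by
        have h1 := congrArg (· ^ 3) hc'
        simp only [conj_pow, D.C.W_cube, (show Commute (sc c') (D.C.W (σ v)) from sc_comm c' _).mul_pow,
          sc_pow, mul_one, mul_inv_cancel] at h1
        exact sc_inj (h1.symm.trans sc_one.symm)
      obtain ⟨z, hz, hze⟩ := hscR (c * c') (by rw [mul_pow, hc, hc'3, one_mul])
      obtain ⟨y, hy, hye⟩ := hWR (σ v)
      have : e.symm g * x * (e.symm g)⁻¹ = z * y := e.injective (by
        rw [map_mul, map_mul, map_mul, map_inv, e.apply_symm_apply, hxe, hze, hye, conj_sc_mul, hc',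
          sc_mul, mul_assoc])
      rw [this]
      exact mul_mem hz hy
    exact d.mem_normalizer _ (key _ d.ha) (key _ d.hb)
  set K := Cfsg.GU 3 F q ⊓ Cfsg.Geo.specialLinear (Fin 3) F with hK
  have hRK : R ≤ K := by
    refine le_inf hRU ?_
    rw [← d.hgen, Subgroup.closure_le]
    rintro x (rfl | rfl) <;> rw [SetLike.mem_coe, hsl, ← hdet]
    · rw [hea, Cube.coe_W, wMat_diag]
      show Matrix.det (Matrix.diagonal ![1, D.C.ω, D.C.ω ^ 2] : SM3) = 1
      rw [Matrix.det_diagonal, Fin.prod_univ_three]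
      simp
      linear_combination D.C.cube
    · rw [heb, Cube.coe_W, wMat_shift]
      show Matrix.det (H99.shift3 : SM3) = 1
      rw [Matrix.det_fin_three]
      simp [H99.shift3]
  refine ⟨?_, fun M hNM hMK => ?_⟩
  · refine lt_of_le_of_ne inf_le_right fun heq => ?_
    obtain ⟨g, hgU, hgd, hgNZ⟩ := exists_not_mem_NZ D
    apply hgNZ
    have hmem : e.symm g ∈ K := ⟨heU' g hgU, (hsl _).2 (by rw [hdet', hgd])⟩
    rw [← heq] at hmem
    refine D.C.mem_NZ_of_conj fun v => ?_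
    obtain ⟨x, hx, hxe⟩ := hWR v
    have h1 : e.symm g * x * (e.symm g)⁻¹ ∈ R :=
      (Subgroup.mem_normalizer_iff.1 hmem.1 x).1 hx
    obtain ⟨c, w, -, hw⟩ := hRg _ h1
    refine ⟨c, w, ?_⟩
    rw [← hw, map_mul, map_mul, map_inv, e.apply_symm_apply, hxe]
  by_cases hall : ∀ g ∈ D.U3, (g : M3).det = 1 → g ∈ M.map e.toMonoidHom
  · refine Or.inr (le_antisymm hMK fun x hx => ?_)
    obtain ⟨y, hy, hye⟩ := hall _ (heU x hx.1) (by rw [hdet]; exact (hsl x).1 hx.2)
    rwa [← e.injective hye]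
  refine Or.inl (le_antisymm ?_ hNM)
  have hover : Over D (M.map e.toMonoidHom) :=
    { le := by rintro _ ⟨x, hx, rfl⟩; exact heU x (hMK hx).1
      det := by
        rintro _ ⟨x, hx, rfl⟩
        show ((e x : G3) : M3).det = 1
        rw [hdet]; exact (hsl x).1 (hMK hx).2
      W := fun v => by
        obtain ⟨x, hx, hxe⟩ := hWR v
        exact ⟨x, hNM ⟨Subgroup.le_normalizer hx, hRK hx⟩, hxe⟩
      Sj := fun j => by
        refine ⟨e.symm _, hNM ⟨hnormR _ (mul_mem (mul_mem (pow_mem D.C.y_mem_NZ j) D.C.S_mem_NZ)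
          (inv_mem (pow_mem D.C.y_mem_NZ j))), heU' _ (mul_mem (mul_mem (pow_mem D.y_mem j) D.S_mem)
          (inv_mem (pow_mem D.y_mem j))), (hsl _).2 ?_⟩, e.apply_symm_apply _⟩
        rw [hdet', Units.val_mul, Units.val_mul, Matrix.det_units_conj, det_S]
      no := hall }
  intro x hx
  refine ⟨?_, hMK hx⟩
  have := hnormR _ (hover.le_NZ ⟨x, hx, rfl⟩)
  rwa [MulEquiv.coe_toMonoidHom, e.symm_apply_apply] at this

end Cfsg.Agent.H76.SUThreeCSix
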