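import Cfsg.Agent.H76.SUThreeCSix.Invol

/-!
There is no second involution of trace minus one centralising the flip.
-/

set_option autoImplicit false

open Cfsg

namespace Cfsg.Agent.H76.SUThreeCSix

open Matrix
open Cfsg.Agent.H1.HeisThree (Cube)

variable {F : Type*} [Field F] [Fintype F] {p : ℕ} {D : Fld F p} {M : Subgroup (GL (ZMod 3) F)}

local notation "T3" => ZMod 3
local notation "M3" => Matrix (ZMod 3) (ZMod 3) F
local notation "G3" => GL (ZMod 3) F
local notation "M2" => Matrix (Fin 2) (Fin 2) F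

/-- The short traces modulo eleven. -/
abbrev Y11 (y : ZMod 11) : Prop := y = 0 ∨ y ^ 2 = 1 ∨ y ^ 2 = 4 ∨ y ^ 4 - 3 * y ^ 2 + 1 = 0

/-- The admissible values modulo eleven. -/
abbrev P11 (a : ZMod 11) : Prop := Y11 ((1 - a) * 6) ∧ Y11 ((1 + a) * 6)

/-- The move modulo eleven. -/
abbrev mv (a b : ZMod 11) : ZMod 11 := ((a + b) ^ 2 * 4 - 2) * b - a

set_option synthInstance.maxSize 8000 in
set_option synthInstance.maxHeartbeats 800000 in
theorem eleven_one : ∀ a : ZMod 11, P11 a → ∀ b0, P11 b0 → P11 (mv a b0) → P11 (mv b0 a) →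
    ∀ b1, P11 b1 → P11 (mv a b1) → P11 (mv b1 a) →
    P11 (-(a + b0 + b1)) → P11 (mv a (-(a + b0 + b1))) → P11 (mv (-(a + b0 + b1)) a) →
    a ^ 2 + b0 ^ 2 + b1 ^ 2 + (-(a + b0 + b1)) ^ 2 = 12 →
    a ^ 2 = 3 ∨ b0 ^ 2 = 3 ∨ b1 ^ 2 = 3 ∨ (-(a + b0 + b1)) ^ 2 = 3 ∨
      mv a b0 ^ 2 = 3 ∨ mv b0 a ^ 2 = 3 ∨ mv a b1 ^ 2 = 3 ∨ mv b1 a ^ 2 = 3 ∨
      mv a (-(a + b0 + b1)) ^ 2 = 3 ∨ mv (-(a + b0 + b1)) a ^ 2 = 3 := by
  decide +kernel

set_option synthInstance.maxSize 8000 in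
set_option synthInstance.maxHeartbeats 800000 in
theorem eleven_two : ∀ a : ZMod 11, a ^ 2 = 3 → ∀ b0, P11 b0 → P11 (mv a b0) → P11 (mv b0 a) →
    ∀ b1, P11 b1 → P11 (mv a b1) → P11 (mv b1 a) →
    P11 (-(a + b0 + b1)) → P11 (mv a (-(a + b0 + b1))) → P11 (mv (-(a + b0 + b1)) a) →
    a ^ 2 + b0 ^ 2 + b1 ^ 2 + (-(a + b0 + b1)) ^ 2 = 12 →
    b0 = -a ∨ b1 = -a ∨ -(a + b0 + b1) = -a := by
  decide +kernel

theorem cast_ne (D : Fld F p) (h11 : p ≠ 11) {n : ℕ}
    (hn : ∀ q, q.Prime → q ∣ n → q ≤ 5 ∨ q = 11) : (n : F) ≠ 0 :=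
  D.cast_ne_zero fun hd => by
    have := D.big
    rcases hn p D.prime hd with h | h <;> omega

/-- Away from eleven there is no such involution. -/
theorem Over.no_inv_generic (h : Over D M) (hp : p ≠ 11) {t : G3} (ht : IsInv D M t) : False := by
  have h2 := D.two_ne_zero
  have h3 := D.C.three_ne_zero
  have nz : ∀ n : ℕ, n ∣ 2 ^ 5 * 3 ^ 5 * 5 ^ 2 * 11 → (n : F) ≠ 0 := fun n hn => cast_ne D hp fun q hq hqn => by
    have hd := dvd_trans hqn hn
    rcases (Nat.Prime.dvd_mul hq).1 hd with hd | hd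
    rcases (Nat.Prime.dvd_mul hq).1 hd with hd | hd
    rcases (Nat.Prime.dvd_mul hq).1 hd with hd | hd
    all_goals
      first
      | have h' := (Nat.prime_dvd_prime_iff_eq hq (by norm_num)).1 (hq.dvd_of_dvd_pow hd)
        omega
      | have h' := (Nat.prime_dvd_prime_iff_eq hq (by norm_num)).1 hd
        omega
  have h5 : (5 : F) ≠ 0 := by exact_mod_cast nz 5 (by norm_num)
  have h11 : (11 : F) ≠ 0 := by exact_mod_cast nz 11 (by norm_num)
  have allowed : ∀ {t : G3}, IsInv D M t →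
      (3 * (t : M3) 0 0) ^ 2 = 1 ∨ (3 * (t : M3) 0 0) ^ 2 = 9 ∨ (3 * (t : M3) 0 0) ^ 2 = 5 :=
    fun ht => eq_of_poly h2 ⟨h3, h5⟩ h11 (ht.allowed h).1 (ht.allowed h).2
  have allowed' : ∀ {t : G3}, IsInv D M t → ∀ j,
      xs D t j ^ 2 = 1 ∨ xs D t j ^ 2 = 9 ∨ xs D t j ^ 2 = 5 := fun ht j => by
    obtain ⟨⟨t', ht', e⟩, -, -⟩ := ht.moves h j
    rw [← e]; exact allowed ht'
  have no : ∀ (n m : ℕ), n ∣ 2 ^ 5 * 3 ^ 5 * 5 ^ 2 * 11 → (n : F) + m = m → False := fun n m hn e =>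
    nz n hn (by linear_combination e)
  -- an involution with square one
  obtain ⟨t, ht, hone⟩ : ∃ t, IsInv D M t ∧ (3 * (t : M3) 0 0) ^ 2 = 1 := by
    obtain ⟨-, hsq⟩ := ht.sums h
    by_cases h0 : (3 * (t : M3) 0 0) ^ 2 = 1
    · exact ⟨t, ht, h0⟩
    by_cases hj : ∃ j, xs D t j ^ 2 = 1
    · obtain ⟨j, hj⟩ := hj
      obtain ⟨⟨t', ht', e⟩, -, -⟩ := ht.moves h j
      exact ⟨t', ht', by rw [e, hj]⟩
    push Not at hj
    exfalso
    rcases (allowed ht).resolve_left h0 with e | e <;> rcases (allowed' ht 0).resolve_left (hj 0) with e0 | e0 <;>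
      rcases (allowed' ht 1).resolve_left (hj 1) with e1 | e1 <;>
      rcases (allowed' ht 2).resolve_left (hj 2) with e2 | e2 <;> rw [e, e0, e1, e2] at hsq
    all_goals
      first
      | exact nz 8 (by norm_num) (by push_cast; linear_combination hsq)
      | exact nz 12 (by norm_num) (by push_cast; linear_combination hsq)
      | exact nz 16 (by norm_num) (by push_cast; linear_combination hsq)
      | exact nz 20 (by norm_num) (by push_cast; linear_combination hsq)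
      | exact nz 24 (by norm_num) (by push_cast; linear_combination hsq)
  obtain ⟨-, hsq⟩ := ht.sums h
  obtain ⟨j, hj⟩ : ∃ j, xs D t j ^ 2 ≠ 1 := by
    by_contra hcon
    push Not at hcon
    rw [hone, hcon 0, hcon 1, hcon 2] at hsq
    exact nz 8 (by norm_num) (by push_cast; linear_combination -hsq)
  obtain ⟨-, ⟨t2, ht2, e2⟩, ⟨t3, ht3, e3⟩⟩ := ht.moves h j
  set x := 3 * (t : M3) 0 0 with hx
  set y := xs D t j with hy
  have bad : ∀ t' : G3, IsInv D M t' → ∀ a b : F, b ≠ 0 → b * (3 * (t' : M3) 0 0) = a * x →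
      (a * a - b * b = 0 → False) → (a * a - 9 * (b * b) = 0 → False) →
      (a * a - 5 * (b * b) = 0 → False) → False := by
    intro t' ht' a b hb he k1 k9 k5
    rcases allowed ht' with e | e | e
    · exact k1 (by linear_combination -(b * (3 * (t' : M3) 0 0) + a * x) * he + b * b * e - a * a * hone)
    · exact k9 (by linear_combination -(b * (3 * (t' : M3) 0 0) + a * x) * he + b * b * e - a * a * hone)
    · exact k5 (by linear_combination -(b * (3 * (t' : M3) 0 0) + a * x) * he + b * b * e - a * a * hone)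
  rcases (allowed' ht j).resolve_left hj with e | e
  · -- three times
    have h' : (y - 3 * x) * (y + 3 * x) = 0 := by linear_combination e - 9 * hone
    rcases mul_eq_zero.1 h' with h' | h'
    · have hy3 : y = 3 * x := sub_eq_zero.1 h'
      refine bad t3 ht3 1 3 h3 ?_ (fun k => nz 8 (by norm_num) (by push_cast; linear_combination -k))
        (fun k => nz 80 (by norm_num) (by push_cast; linear_combination -k))
        (fun k => nz 44 (by norm_num) (by push_cast; linear_combination -k))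
      rw [e3, hy3]
      field_simp
      linear_combination 16 * x * hone
    · have hy3 : y = -(3 * x) := eq_neg_of_add_eq_zero_left h'
      refine bad t3 ht3 7 3 h3 ?_ (fun k => nz 40 (by norm_num) (by push_cast; linear_combination k))
        (fun k => nz 32 (by norm_num) (by push_cast; linear_combination -k))
        (fun k => nz 4 (by norm_num) (by push_cast; linear_combination k))
      rw [e3, hy3]
      field_simp
      linear_combination 4 * x * hone
  · refine bad t2 ht2 7 3 h3 ?_ (fun k => nz 40 (by norm_num) (by push_cast; linear_combination k))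
      (fun k => nz 32 (by norm_num) (by push_cast; linear_combination -k))
      (fun k => nz 4 (by norm_num) (by push_cast; linear_combination k))
    rw [e2]
    field_simp
    linear_combination y * hone + (2 * x + y) * e

/-- In characteristic eleven there is no such involution. -/
theorem Over.no_inv_eleven (h : Over D M) (hp : p = 11) {t : G3} (ht : IsInv D M t) : False := by
  subst hp
  have := D.charP
  let φ : ZMod 11 →+* F := ZMod.castHom (dvd_refl 11) F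
  haveI : Fact (Nat.Prime 11) := ⟨by norm_num⟩
  have hinj : Function.Injective φ := φ.injective
  have val : ∀ {t : G3}, IsInv D M t → ∃ a, φ a = 3 * (t : M3) 0 0 := fun {t} ht => by
    obtain ⟨n, hn⟩ := D.exists_natCast (x := 3 * (t : M3) 0 0)
      (by rw [map_mul, map_ofNat, (ht.coord h).real])
    exact ⟨n, by rw [map_natCast, hn]⟩
  have h6 : (6 : F) * 2 = 1 := by
    have : ((11 : ℕ) : F) = 0 := CharP.cast_eq_zero F 11
    linear_combination this
  have hY : ∀ z : ZMod 11, Yset (φ z) → Y11 z := by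
    intro z hz
    rcases hz with e | e | e | e
    · exact Or.inl (hinj (by rw [map_zero, e]))
    · exact Or.inr (Or.inl (hinj (by rw [map_pow, map_one, e])))
    · exact Or.inr (Or.inr (Or.inl (hinj (by rw [map_pow, map_ofNat, e]))))
    · exact Or.inr (Or.inr (Or.inr (hinj (by simp only [map_add, map_sub, map_mul, map_pow, map_ofNat, map_one, map_zero]; exact e))))
  have hP : ∀ {t : G3}, IsInv D M t → ∀ a, φ a = 3 * (t : M3) 0 0 → P11 a := by
    intro t ht a ha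
    obtain ⟨a1, a2⟩ := ht.allowed h
    have hd : ∀ z : F, z / 2 = z * 6 := fun z => by
      rw [div_eq_iff D.two_ne_zero, mul_assoc, h6, mul_one]
    rw [← ha, hd] at a1 a2
    exact ⟨hY _ (by simpa [map_ofNat] using a1), hY _ (by simpa [map_ofNat] using a2)⟩
  have hmv : ∀ a b : ZMod 11, φ (mv a b) = ((φ a + φ b) ^ 2 / 3 - 2) * φ b - φ a := by
    intro a b
    have h4 : (4 : F) * 3 = 1 := by
      have : ((11 : ℕ) : F) = 0 := CharP.cast_eq_zero F 11
      linear_combination this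
    simp only [mv, map_add, map_sub, map_mul, map_pow, map_ofNat]
    rw [show (φ a + φ b) ^ 2 / 3 = (φ a + φ b) ^ 2 * 4 by
      rw [div_eq_iff D.C.three_ne_zero, mul_assoc, h4, mul_one]]
  have data : ∀ {t : G3}, IsInv D M t → ∃ a b0 b1 : ZMod 11, φ a = 3 * (t : M3) 0 0 ∧
      φ b0 = xs D t 0 ∧ φ b1 = xs D t 1 ∧ φ (-(a + b0 + b1)) = xs D t 2 ∧
      a ^ 2 + b0 ^ 2 + b1 ^ 2 + (-(a + b0 + b1)) ^ 2 = 12 ∧
      ∀ b, (∃ j, φ b = xs D t j) → P11 b ∧ P11 (mv a b) ∧ P11 (mv b a) ∧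
        ((∃ c, (c = b ∨ c = mv a b ∨ c = mv b a) ∧ c ^ 2 = 3) →
          ∃ t' a', IsInv D M t' ∧ φ a' = 3 * (t' : M3) 0 0 ∧ a' ^ 2 = 3) := by
    intro t ht
    obtain ⟨a, ha⟩ := val ht
    have xj : ∀ j, ∃ b, φ b = xs D t j := fun j => by
      obtain ⟨⟨t', ht', e⟩, -, -⟩ := ht.moves h j
      rw [← e]; exact val ht'
    obtain ⟨b0, hb0⟩ := xj 0
    obtain ⟨b1, hb1⟩ := xj 1
    obtain ⟨hs, hsq⟩ := ht.sums h
    have hb2 : φ (-(a + b0 + b1)) = xs D t 2 := by
      rw [map_neg, map_add, map_add, ha, hb0, hb1]; linear_combination -hs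
    refine ⟨a, b0, b1, ha, hb0, hb1, hb2, hinj ?_, ?_⟩
    · simp only [map_add, map_pow, map_ofNat, ha, hb0, hb1, hb2]; exact hsq
    rintro b ⟨j, hb⟩
    obtain ⟨⟨u1, hu1, e1⟩, ⟨u2, hu2, e2⟩, ⟨u3, hu3, e3⟩⟩ := ht.moves h j
    have f1 : φ b = 3 * (u1 : M3) 0 0 := hb.trans e1.symm
    have f2 : φ (mv a b) = 3 * (u2 : M3) 0 0 := by rw [hmv, ha, hb, e2]
    have f3 : φ (mv b a) = 3 * (u3 : M3) 0 0 := by
      rw [hmv, ha, hb, e3, add_comm (xs D t j)]
    refine ⟨hP hu1 _ f1, hP hu2 _ f2, hP hu3 _ f3, ?_⟩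
    rintro ⟨c, rfl | rfl | rfl, hc⟩
    exacts [⟨u1, _, hu1, f1, hc⟩, ⟨u2, _, hu2, f2, hc⟩, ⟨u3, _, hu3, f3, hc⟩]
  obtain ⟨u, a, hu, hua, ha3⟩ :
      ∃ t' a', IsInv D M t' ∧ φ a' = 3 * (t' : M3) 0 0 ∧ a' ^ 2 = 3 := by
    obtain ⟨a, b0, b1, ha, hb0, hb1, hb2, hsq, hall⟩ := data ht
    obtain ⟨p0, q0, r0, g0⟩ := hall b0 ⟨0, hb0⟩
    obtain ⟨p1, q1, r1, g1⟩ := hall b1 ⟨1, hb1⟩
    obtain ⟨p2, q2, r2, g2⟩ := hall _ ⟨2, hb2⟩
    rcases eleven_one a (hP ht a ha) b0 p0 q0 r0 b1 p1 q1 r1 p2 q2 r2 hsq with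
      e | e | e | e | e | e | e | e | e | e
    · exact ⟨t, a, ht, ha, e⟩
    · exact g0 ⟨_, Or.inl rfl, e⟩
    · exact g1 ⟨_, Or.inl rfl, e⟩
    · exact g2 ⟨_, Or.inl rfl, e⟩
    · exact g0 ⟨_, Or.inr (Or.inl rfl), e⟩
    · exact g0 ⟨_, Or.inr (Or.inr rfl), e⟩
    · exact g1 ⟨_, Or.inr (Or.inl rfl), e⟩
    · exact g1 ⟨_, Or.inr (Or.inr rfl), e⟩
    · exact g2 ⟨_, Or.inr (Or.inl rfl), e⟩
    · exact g2 ⟨_, Or.inr (Or.inr rfl), e⟩
  obtain ⟨a', b0, b1, ha', hb0, hb1, hb2, hsq, hall⟩ := data hu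
  obtain rfl : a' = a := hinj (ha'.trans hua.symm)
  obtain ⟨p0, q0, r0, -⟩ := hall b0 ⟨0, hb0⟩
  obtain ⟨p1, q1, r1, -⟩ := hall b1 ⟨1, hb1⟩
  obtain ⟨p2, q2, r2, -⟩ := hall _ ⟨2, hb2⟩
  obtain ⟨j, hj⟩ : ∃ j, xs D u j = -(3 * (u : M3) 0 0) := by
    rcases eleven_two a' ha3 b0 p0 q0 r0 b1 p1 q1 r1 p2 q2 r2 hsq with e | e | e
    · exact ⟨0, by rw [← hb0, e, map_neg, ha']⟩
    · exact ⟨1, by rw [← hb1, e, map_neg, ha']⟩
    · exact ⟨2, by rw [← hb2, e, map_neg, ha']⟩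
  have hcsq : (3 * (u : M3) 0 0) ^ 2 = 3 := by rw [← ha', ← map_pow, ha3, map_ofNat]
  have hc := hu.coord h
  set c := (u : M3) 0 0 with hc_def
  set β := (u : M3) 0 1 with hβ_def
  have h3 := D.C.three_ne_zero
  have hc3 : 3 * (c * c) = 1 := mul_left_cancel₀ h3 (by linear_combination hcsq)
  have hnorm : β * D.σ β = c * c := by
    refine mul_left_cancel₀ (mul_ne_zero D.two_ne_zero h3) ?_
    have := hc.norm
    rw [← hc_def, ← hβ_def] at this
    linear_combination 3 * this - 3 * hc3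
  set w := D.C.ω ^ j with hw
  have hw3 : w ^ 3 = 1 := ω_pow_three D j
  have hsum : w * β + w ^ 2 * D.σ β = -c := by
    refine mul_left_cancel₀ D.two_ne_zero ?_
    simp only [xs, ← hc_def, ← hβ_def, ← hw] at hj
    linear_combination hj
  have hprod : (w * β - D.C.ω * c) * (w * β - D.C.ω ^ 2 * c) = 0 := by
    linear_combination w * β * hsum - w ^ 3 * hnorm - c * c * hw3 + c * c * D.C.cube - w * β * c * D.C.sq_add
  obtain ⟨i, hi⟩ : ∃ i : ℕ, β = D.C.ω ^ i * c := by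
    rcases mul_eq_zero.1 hprod with e | e
    · exact ⟨2 * j + 1, by
        rw [pow_succ, mul_comm 2 j, pow_mul, ← hw]
        linear_combination w ^ 2 * e - β * hw3⟩
    · exact ⟨2 * j + 2, by
        rw [pow_add, mul_comm 2 j, pow_mul, ← hw]
        linear_combination w ^ 2 * e - β * hw3⟩
  have hi3 := ω_pow_three D i
  have hσβ : D.σ β = (D.C.ω ^ i) ^ 2 * c := by
    have hc0 : c ≠ 0 := fun e => one_ne_zero (show (1 : F) = 0 by rw [← hc3, e]; ring)
    have hne : β ≠ 0 := by rw [hi]; exact mul_ne_zero (pow_ne_zero _ D.C.ne_zero) hc0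
    refine mul_left_cancel₀ hne ?_
    rw [hnorm, hi]
    linear_combination -(c * c) * hi3
  obtain ⟨g, hgS, hgphi, hgmu⟩ := phi_conj_S D (2 * i)
  let T : D.C.Hgrp := ⟨u, hu.cen⟩
  have hg : ((g * T : D.C.Hgrp) : G3) ∈ M := mul_mem (hgS ▸ h.Sj _) hu.mem
  refine h.no_quarter hg (ν := -c * (1 + 2 * D.C.ω)) ?_ ?_ ?_
  · linear_combination -hc3 + 4 * (c * c) * D.C.sq_add
  · have hs : D.C.s * (1 + 2 * D.C.ω) = 1 := inv_mul_cancel₀ D.C.root_ne_zero
    have hT : (D.C.phi T : M2) = (c * (1 + 2 * D.C.ω)) • (D.X (2 * i) : M2) := by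
      rw [Cube.coe_phi, coe_X, smul_smul, mul_assoc, mul_comm _ D.C.s, hs, mul_one]
      ext a b
      fin_cases a <;> fin_cases b <;> simp [T, Cube.phiMat, ← hc_def, ← hβ_def, hc.e10]
      · rw [hi, pow_mul']
        linear_combination -2 * (D.C.ω ^ i * c) * hi3
      · rw [hσβ, pow_mul']; ring
      · refine mul_left_cancel₀ D.two_ne_zero ?_
        linear_combination hc.e11 + hc.e12
    rw [map_mul, Units.val_mul, hgphi, hT, Matrix.mul_smul, X_sq, smul_neg, ← neg_smul, ← neg_mul]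
  · rw [map_mul, Units.val_mul, hgmu, one_mul, Cube.coe_mu]
    show (u : M3) 1 1 - (u : M3) 1 2 = -1
    refine mul_left_cancel₀ D.two_ne_zero ?_
    linear_combination hc.e11 - hc.e12

/-- The flip is the only involution of trace minus one in its centraliser in `M`. -/
theorem Over.no_inv (h : Over D M) {t : G3} (ht : IsInv D M t) : False := by
  by_cases hp : p = 11
  · exact h.no_inv_eleven hp ht
  · exact h.no_inv_generic hp ht

end Cfsg.Agent.H76.SUThreeCSix
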