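import Cfsg.Agent.H76.SUThreeCSix.Setup
import Cfsg.Agent.H76.SUThreeCSix.Small

/-!
The action of `SL₂` on binary quadratic forms, and the twisted forms of `SL₂(p)`.
-/

set_option autoImplicit false

open Cfsg

namespace Cfsg.Agent.H76.SUThreeCSix

open Matrix

variable {F : Type*} [Field F]

local notation "M2" => Matrix (Fin 2) (Fin 2) F
local notation "S2" => Matrix.SpecialLinearGroup (Fin 2) F

/-- The symmetric square in the basis `m·xy, x², y²`. -/
def sym2 (m : F) (X : M2) : Matrix (ZMod 3) (ZMod 3) F :=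
  Matrix.of fun i j =>
    (if i = 0 then ![X 0 0 * X 1 1 + X 0 1 * X 1 0, 2 * X 0 0 * X 1 0 / m, 2 * X 0 1 * X 1 1 / m]
    else if i = 1 then ![m * (X 0 0 * X 0 1), X 0 0 * X 0 0, X 0 1 * X 0 1]
    else ![m * (X 1 0 * X 1 1), X 1 0 * X 1 0, X 1 1 * X 1 1] : Fin 3 → F) j

theorem sym2_row0 (m : F) (X : M2) : sym2 m X 0 0 = X 0 0 * X 1 1 + X 0 1 * X 1 0 ∧
    sym2 m X 0 1 = 2 * X 0 0 * X 1 0 / m ∧ sym2 m X 0 2 = 2 * X 0 1 * X 1 1 / m := ⟨rfl, rfl, rfl⟩

theorem sym2_row1 (m : F) (X : M2) : sym2 m X 1 0 = m * (X 0 0 * X 0 1) ∧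
    sym2 m X 1 1 = X 0 0 * X 0 0 ∧ sym2 m X 1 2 = X 0 1 * X 0 1 := ⟨rfl, rfl, rfl⟩

theorem sym2_row2 (m : F) (X : M2) : sym2 m X 2 0 = m * (X 1 0 * X 1 1) ∧
    sym2 m X 2 1 = X 1 0 * X 1 0 ∧ sym2 m X 2 2 = X 1 1 * X 1 1 := ⟨rfl, rfl, rfl⟩

theorem sym2_mul {m : F} (hm : m ≠ 0) (X Y : M2) : sym2 m (X * Y) = sym2 m X * sym2 m Y := by
  ext i j
  obtain ⟨a0, a1, a2⟩ := sym2_row0 m X
  obtain ⟨b0, b1, b2⟩ := sym2_row1 m X
  obtain ⟨c0, c1, c2⟩ := sym2_row2 m X
  obtain ⟨d0, d1, d2⟩ := sym2_row0 m Y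
  obtain ⟨e0, e1, e2⟩ := sym2_row1 m Y
  obtain ⟨f0, f1, f2⟩ := sym2_row2 m Y
  obtain ⟨g0, g1, g2⟩ := sym2_row0 m (X * Y)
  obtain ⟨k0, k1, k2⟩ := sym2_row1 m (X * Y)
  obtain ⟨l0, l1, l2⟩ := sym2_row2 m (X * Y)
  rw [Matrix.mul_apply, H1.HeisThree.sum3]
  obtain rfl | rfl | rfl : i = 0 ∨ i = 1 ∨ i = 2 := by revert i; decide
  all_goals obtain rfl | rfl | rfl : j = 0 ∨ j = 1 ∨ j = 2 := by revert j; decide
  all_goals
    simp only [a0, a1, a2, b0, b1, b2, c0, c1, c2, d0, d1, d2, e0, e1, e2, f0, f1, f2,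
      g0, g1, g2, k0, k1, k2, l0, l1, l2, Matrix.mul_apply, Fin.sum_univ_two]
    field_simp
    ring

theorem sym2_smul (m l : F) (X : M2) : sym2 m (l • X) = (l * l) • sym2 m X := by
  ext i j
  obtain ⟨a0, a1, a2⟩ := sym2_row0 m X
  obtain ⟨b0, b1, b2⟩ := sym2_row1 m X
  obtain ⟨c0, c1, c2⟩ := sym2_row2 m X
  obtain ⟨g0, g1, g2⟩ := sym2_row0 m (l • X)
  obtain ⟨k0, k1, k2⟩ := sym2_row1 m (l • X)
  obtain ⟨n0, n1, n2⟩ := sym2_row2 m (l • X)
  rw [Matrix.smul_apply]
  obtain rfl | rfl | rfl : i = 0 ∨ i = 1 ∨ i = 2 := by revert i; decide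
  all_goals obtain rfl | rfl | rfl : j = 0 ∨ j = 1 ∨ j = 2 := by revert j; decide
  all_goals
    simp only [a0, a1, a2, b0, b1, b2, c0, c1, c2, g0, g1, g2, k0, k1, k2, n0, n1, n2,
      Matrix.smul_apply, smul_eq_mul]
    ring

theorem sym2_one (m : F) : sym2 m (1 : M2) = 1 := by
  ext i j
  obtain ⟨a0, a1, a2⟩ := sym2_row0 m (1 : M2)
  obtain ⟨b0, b1, b2⟩ := sym2_row1 m (1 : M2)
  obtain ⟨c0, c1, c2⟩ := sym2_row2 m (1 : M2)
  obtain rfl | rfl | rfl : i = 0 ∨ i = 1 ∨ i = 2 := by revert i; decide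
  all_goals obtain rfl | rfl | rfl : j = 0 ∨ j = 1 ∨ j = 2 := by revert j; decide
  all_goals
    simp [a0, a1, a2, b0, b1, b2, c0, c1, c2, Matrix.one_apply, show (1 : ZMod 3) ≠ 2 by decide,
      show (2 : ZMod 3) ≠ 1 by decide, show (0 : ZMod 3) ≠ 2 by decide, show (2 : ZMod 3) ≠ 0 by decide]

/-- The elements of `SL₂` whose symmetric square lies in a subgroup. -/
def symPre {m : F} (hm : m ≠ 0) (M : Subgroup (GL (ZMod 3) F)) : Subgroup S2 where
  carrier := {X | ∃ g ∈ M, (g : Matrix (ZMod 3) (ZMod 3) F) = sym2 m (X : M2)}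
  one_mem' := ⟨1, one_mem _, by simp [sym2_one]⟩
  mul_mem' := by
    rintro X Y ⟨g, hg, e⟩ ⟨k, hk, e'⟩
    exact ⟨g * k, mul_mem hg hk, by
      rw [Units.val_mul, e, e', Matrix.SpecialLinearGroup.coe_mul, sym2_mul hm]⟩
  inv_mem' := by
    rintro X ⟨g, hg, e⟩
    refine ⟨g⁻¹, inv_mem hg, ?_⟩
    refine Units.inv_eq_of_mul_eq_one_left ?_
    rw [e, ← sym2_mul hm, ← Matrix.SpecialLinearGroup.coe_mul, inv_mul_cancel,
      Matrix.SpecialLinearGroup.coe_one, sym2_one]

/-- The powers of a matrix of determinant one. -/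
theorem sl_pow_facts (X : S2) {y : F} (hy : (X : M2).trace = y) :
    ((X ^ 2 : S2) : M2) = y • (X : M2) - 1 ∧
    ((X ^ 3 : S2) : M2) = (y ^ 2 - 1) • (X : M2) - y • 1 ∧
    ((X ^ 5 : S2) : M2) = (y ^ 4 - 3 * y ^ 2 + 1) • (X : M2) - (y ^ 3 - 2 * y) • 1 := by
  have hd := X.2
  rw [Matrix.det_fin_two] at hd
  rw [Matrix.trace_fin_two] at hy
  have h2 : (X : M2) * (X : M2) = y • (X : M2) - 1 := by
    ext i j
    rw [Matrix.mul_apply, Fin.sum_univ_two]
    fin_cases i <;> fin_cases j <;> simp [← hy] <;>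
      first | linear_combination -hd | linear_combination hd | ring
  have h3 : (X : M2) * (X : M2) * (X : M2) = (y ^ 2 - 1) • (X : M2) - y • 1 := by
    rw [h2, Matrix.sub_mul, Matrix.smul_mul, one_mul, h2]
    module
  refine ⟨by rw [Matrix.SpecialLinearGroup.coe_pow, pow_two, h2], ?_, ?_⟩
  · rw [Matrix.SpecialLinearGroup.coe_pow, pow_succ, pow_two, h3]
  · rw [Matrix.SpecialLinearGroup.coe_pow, show (5 : ℕ) = 2 + 3 from rfl, pow_add, pow_two,
      pow_succ, pow_two, h3, h2]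
    simp only [Matrix.sub_mul, Matrix.mul_sub, Matrix.smul_mul, Matrix.mul_smul, one_mul, mul_one, h2]
    module

/-- The traces of short elements. -/
theorem trace_of_short {X : S2} {y : F} (hy : (X : M2).trace = y)
    (h : proj (X ^ 2) = 1 ∨ proj (X ^ 3) = 1 ∨ proj (X ^ 5) = 1) :
    y = 0 ∨ y ^ 2 = 1 ∨ y ^ 2 = 4 ∨ y ^ 4 - 3 * y ^ 2 + 1 = 0 := by
  obtain ⟨h2, h3, h5⟩ := sl_pow_facts X hy
  have hd := X.2
  rw [Matrix.det_fin_two] at hd
  rw [Matrix.trace_fin_two] at hy
  have key : ∀ a b : F, ∀ e : F, a • (X : M2) - b • 1 = e • 1 → a = 0 ∨ y ^ 2 = 4 := by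
    intro a b e h
    by_cases ha : a = 0
    · exact Or.inl ha
    right
    have e01 := congrFun (congrFun h 0) 1
    have e10 := congrFun (congrFun h 1) 0
    have e00 := congrFun (congrFun h 0) 0
    have e11 := congrFun (congrFun h 1) 1
    simp [ha] at e01 e10 e00 e11
    have hx : (X : M2) 0 0 = (X : M2) 1 1 := mul_left_cancel₀ ha (by linear_combination e00 - e11)
    rw [← hy, hx]
    rw [hx, e01, e10] at hd
    linear_combination 4 * hd
  have conv : ∀ {Z : S2}, proj Z = 1 → ∃ e : F, (Z : M2) = e • 1 := fun hZ => by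
    rcases proj_eq_one.1 hZ with h | h
    · exact ⟨1, by rw [h, one_smul]⟩
    · exact ⟨-1, by rw [h, neg_one_smul]⟩
  rcases h with h | h | h <;> obtain ⟨e, he⟩ := conv h
  · rw [h2, ← one_smul F (1 : M2), smul_smul, mul_one] at he
    rcases key y 1 e he with h | h
    · exact Or.inl h
    · exact Or.inr (Or.inr (Or.inl h))
  · rw [h3] at he
    rcases key _ _ e he with h | h
    · exact Or.inr (Or.inl (by linear_combination h))
    · exact Or.inr (Or.inr (Or.inl h))
  · rw [h5] at he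
    rcases key _ _ e he with h | h
    · exact Or.inr (Or.inr (Or.inr h))
    · exact Or.inr (Or.inr (Or.inl h))

variable [Fintype F] {p : ℕ} (D : Fld F p)

/-- The twisted real form. -/
def IsReal (ε : F) (X : M2) : Prop := X 1 1 = D.σ (X 0 0) ∧ X 1 0 = ε * D.σ (X 0 1)

variable {D}

theorem IsReal.mul {ε : F} (hε : ε * ε = 1) (hεσ : D.σ ε = ε) {X Y : M2} (hX : IsReal D ε X)
    (hY : IsReal D ε Y) : IsReal D ε (X * Y) := by
  obtain ⟨a, b⟩ := hX
  obtain ⟨c, d⟩ := hY
  constructor <;> simp only [Matrix.mul_apply, Fin.sum_univ_two, a, b, c, d, map_add, map_mul, hεσ, Fld.σσ]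
  · linear_combination 0 * hε
  · linear_combination (-(D.σ (Y 1 1) * D.σ (X 0 1) * 0)) * hε

theorem IsReal.one (ε : F) : IsReal D ε (1 : M2) := ⟨by simp, by simp⟩

theorem IsReal.add {ε : F} {X Y : M2} (hX : IsReal D ε X) (hY : IsReal D ε Y) : IsReal D ε (X + Y) :=
  ⟨by simp [hX.1, hY.1], by simp [hX.2, hY.2]; ring⟩

theorem IsReal.sub {ε : F} {X Y : M2} (hX : IsReal D ε X) (hY : IsReal D ε Y) : IsReal D ε (X - Y) :=
  ⟨by simp [hX.1, hY.1], by simp [hX.2, hY.2]; ring⟩

theorem IsReal.smul {ε : F} {X : M2} (hX : IsReal D ε X) {c : F} (hc : D.σ c = c) :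
    IsReal D ε (c • X) := ⟨by simp [hX.1, hc], by simp [hX.2, hc]; ring⟩

theorem IsReal.inv {ε : F} (hε : ε * ε = 1) (hεσ : D.σ ε = ε) {X : S2} (hX : IsReal D ε (X : M2)) :
    IsReal D ε ((X⁻¹ : S2) : M2) := by
  obtain ⟨a, b⟩ := hX
  rw [Matrix.SpecialLinearGroup.coe_inv, Matrix.adjugate_fin_two]
  refine ⟨?_, ?_⟩
  · simp [a, Fld.σσ]
  · simp [b]

theorem pow_one_add {κ : Type*} [Fintype κ] [DecidableEq κ] {K : Type*} [CommRing K]
    {N : Matrix κ κ K} (hN : N * N = 0) (n : ℕ) : (1 + N) ^ n = 1 + (n : K) • N := by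
  induction n with
  | zero => simp
  | succ n ih =>
    rw [pow_succ, ih, Matrix.add_mul, Matrix.mul_add, Matrix.mul_add, one_mul, one_mul, mul_one,
      Matrix.smul_mul, hN, smul_zero, add_zero, Nat.cast_succ, add_smul, one_smul]
    abel

set_option maxHeartbeats 1000000 in
/-- A subgroup of the real form with an element of order `p` and no fixed point is all of it. -/
theorem real_mem {ε : F} (hε : ε * ε = 1) (hεσ : D.σ ε = ε) {H : Subgroup S2}
    (hH : ∀ X ∈ H, IsReal D ε (X : M2)) {A B : S2} (hA : A ∈ H) (hB : B ∈ H) {a b : F}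
    (hAd : (A : M2) = !![a, 0; 0, b]) (hab : a ≠ b) (hB01 : (B : M2) 0 1 ≠ 0)
    (hB10 : (B : M2) 1 0 ≠ 0) {U : S2} (hU : U ∈ H) (hU1 : proj U ≠ 1) (hUp : proj (U ^ p) = 1)
    (X : S2) (hX : IsReal D ε (X : M2)) : X ∈ H := by
  classical
  have := D.charP
  have := Fact.mk D.prime
  -- the unipotent element
  set V : S2 := U ^ 2 with hVdef
  have hV : V ∈ H := pow_mem hU 2
  have hVp : (V : M2) ^ p = 1 := by
    rw [hVdef, Matrix.SpecialLinearGroup.coe_pow, ← pow_mul, mul_comm, pow_mul]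
    rcases proj_eq_one.1 hUp with e | e <;> rw [Matrix.SpecialLinearGroup.coe_pow] at e <;>
      rw [e] <;> simp
  set N : M2 := (V : M2) - 1 with hNdef
  have hVN : (V : M2) = 1 + N := by rw [hNdef, add_sub_cancel]
  have hNnil : IsNilpotent N := ⟨p, by
    rw [hNdef, sub_pow_char_of_commute _ (Commute.one_right _), hVp, one_pow, sub_self]⟩
  have htr : N 0 0 + N 1 1 = 0 := by
    have := (Matrix.isNilpotent_trace_of_isNilpotent hNnil).eq_zero
    rwa [Matrix.trace_fin_two] at this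
  have hdet : N 0 0 * N 1 1 - N 0 1 * N 1 0 = 0 := by
    obtain ⟨n, hn⟩ := hNnil
    have := congrArg Matrix.det hn
    rw [Matrix.det_pow, Matrix.det_zero] at this
    have h0 := eq_zero_of_pow_eq_zero this
    rwa [Matrix.det_fin_two] at h0
  have hN0 : N ≠ 0 := by
    intro h0
    have hV1 : proj V = 1 := proj_eq_one.2 (Or.inl (by rw [hVN, h0, add_zero]))
    rw [hVdef, map_pow] at hV1
    rw [map_pow] at hUp
    have hco : Nat.Coprime 2 p := (Nat.coprime_primes Nat.prime_two D.prime).2 (by have := D.big; omega)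
    exact hU1 (orderOf_eq_one_iff.1 (Nat.eq_one_of_dvd_coprimes hco (orderOf_dvd_of_pow_eq_one hV1)
      (orderOf_dvd_of_pow_eq_one hUp)))
  have hsq : ∀ N : M2, N 0 0 + N 1 1 = 0 → N 0 0 * N 1 1 - N 0 1 * N 1 0 = 0 → N * N = 0 := by
    intro N htr hdet
    ext i k
    fin_cases i <;> fin_cases k <;> simp [Matrix.mul_apply, Fin.sum_univ_two] <;>
      first | linear_combination -hdet + N 0 0 * htr | linear_combination N 0 1 * htr |
        linear_combination N 1 0 * htr | linear_combination -hdet + N 1 1 * htr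
  have hN2 := hsq N htr hdet
  -- a conjugate with a different fixed line
  obtain ⟨g, hg, hgN⟩ : ∃ g ∈ H, N * ((g : M2) * N * ((g⁻¹ : S2) : M2)) ≠ 0 := by
    by_contra hcon
    push Not at hcon
    apply hN0
    have key : ∀ g ∈ H, N * (g : M2) * N = 0 := by
      intro g hg
      have h1 := hcon g hg
      calc N * (g : M2) * N = N * ((g : M2) * N * ((g⁻¹ : S2) : M2)) * (g : M2) := by
            simp only [Matrix.mul_assoc]
            rw [← Matrix.SpecialLinearGroup.coe_mul, inv_mul_cancel, Matrix.SpecialLinearGroup.coe_one,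
              mul_one]
        _ = 0 := by rw [h1, Matrix.zero_mul]
    have hNA := key A hA
    have hNB := key B hB
    have a00 := congrFun (congrFun hNA 0) 0
    have a11 := congrFun (congrFun hNA 1) 1
    simp [hAd, Matrix.mul_apply, Fin.sum_univ_two] at a00 a11
    have h00 : N 0 0 = 0 := by
      have h3 : (a - b) * (N 0 0 * N 0 0) = 0 := by linear_combination a00 + b * hdet - b * N 0 0 * htr
      exact mul_self_eq_zero.1 ((mul_eq_zero.1 h3).resolve_left (sub_ne_zero.2 hab))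
    have h11 : N 1 1 = 0 := by linear_combination htr - h00
    have b01 := congrFun (congrFun hNB 0) 1
    have b10 := congrFun (congrFun hNB 1) 0
    simp [Matrix.mul_apply, Fin.sum_univ_two, h00, h11, hB01, hB10] at b01 b10
    ext i k
    fin_cases i <;> fin_cases k <;> simp [h00, h11, b01, b10]
  set V' : S2 := g * V * g⁻¹ with hV'def
  have hV' : V' ∈ H := mul_mem (mul_mem hg hV) (inv_mem hg)
  set N' : M2 := (g : M2) * N * ((g⁻¹ : S2) : M2) with hN'def
  have hV'N : (V' : M2) = 1 + N' := by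
    rw [hV'def, Matrix.SpecialLinearGroup.coe_mul, Matrix.SpecialLinearGroup.coe_mul, hVN, hN'def,
      Matrix.mul_add, Matrix.add_mul, mul_one, ← Matrix.SpecialLinearGroup.coe_mul, mul_inv_cancel,
      Matrix.SpecialLinearGroup.coe_one]
  have hN'2 : N' * N' = 0 := by
    calc N' * N' = (g : M2) * N * (((g⁻¹ : S2) : M2) * (g : M2)) * N * ((g⁻¹ : S2) : M2) := by
          simp only [hN'def, Matrix.mul_assoc]
      _ = (g : M2) * (N * N) * ((g⁻¹ : S2) : M2) := by
        rw [← Matrix.SpecialLinearGroup.coe_mul, inv_mul_cancel, Matrix.SpecialLinearGroup.coe_one, mul_one]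
        simp only [Matrix.mul_assoc]
      _ = 0 := by rw [hN2, Matrix.mul_zero, Matrix.zero_mul]
  set n := (N * N').trace with hn_def
  have hnil2 : ∀ {N : M2}, N * N = 0 → N.trace = 0 ∧ N.det = 0 := by
    intro N h
    have h1 : IsNilpotent N := ⟨2, by rw [pow_two, h]⟩
    refine ⟨(Matrix.isNilpotent_trace_of_isNilpotent h1).eq_zero, ?_⟩
    have := congrArg Matrix.det h
    rw [Matrix.det_mul, Matrix.det_zero] at this
    exact mul_self_eq_zero.1 this
  -- the algebra relations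
  obtain ⟨r1, r2, r3⟩ : N * N' * N = n • N ∧ N' * N * N' = n • N' ∧ N * N' + N' * N = n • 1 := by
    obtain ⟨t', d'⟩ := hnil2 hN'2
    rw [Matrix.trace_fin_two] at t'
    rw [Matrix.det_fin_two] at d'
    have hN'11 : N' 1 1 = -N' 0 0 := by linear_combination t'
    have hN11 : N 1 1 = -N 0 0 := by linear_combination htr
    rw [hN'11] at d'
    have hdet' := hdet
    rw [hN11] at hdet'
    rw [hn_def, Matrix.trace_fin_two]
    refine ⟨?_, ?_, ?_⟩ <;> ext i k <;> fin_cases i <;> fin_cases k <;>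
      simp [Matrix.mul_apply, Fin.sum_univ_two, hN11, hN'11, Matrix.one_apply] <;>
      first
      | ring1
      | linear_combination N' 0 0 * hdet'
      | linear_combination -N' 0 0 * hdet'
      | linear_combination N' 0 1 * hdet'
      | linear_combination -N' 0 1 * hdet'
      | linear_combination N' 1 0 * hdet'
      | linear_combination -N' 1 0 * hdet'
      | linear_combination N 0 0 * d'
      | linear_combination -N 0 0 * d'
      | linear_combination N 0 1 * d'
      | linear_combination -N 0 1 * d'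
      | linear_combination N 1 0 * d'
      | linear_combination -N 1 0 * d'
      | linear_combination hdet'
      | linear_combination d'
  have hn0 : n ≠ 0 := fun h0 => by
    apply hgN
    show N * N' = 0
    obtain ⟨t', d'⟩ := hnil2 hN'2
    rw [Matrix.trace_fin_two] at t'
    have hN11 : N 1 1 = -N 0 0 := by linear_combination htr
    have hN'11 : N' 1 1 = -N' 0 0 := by linear_combination t'
    rw [Matrix.det_fin_two, hN'11] at d'
    have hdet' := hdet
    rw [hN11] at hdet'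
    rw [hn_def, Matrix.trace_fin_two] at h0
    simp [Matrix.mul_apply, Fin.sum_univ_two, hN11, hN'11] at h0
    ext i k
    fin_cases i <;> fin_cases k <;> simp [Matrix.mul_apply, Fin.sum_univ_two, hN11, hN'11] <;>
      apply mul_self_eq_zero.1
    · linear_combination N 0 1 * N' 1 0 * h0 + N 0 1 * N 1 0 * d' - N' 0 0 ^ 2 * hdet'
    · linear_combination -N 0 1 * N' 0 1 * h0 - N' 0 1 ^ 2 * hdet' - N 0 1 ^ 2 * d'
    · linear_combination -N 1 0 * N' 1 0 * h0 - N' 1 0 ^ 2 * hdet' - N 1 0 ^ 2 * d'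
    · linear_combination N 1 0 * N' 0 1 * h0 + N 0 1 * N 1 0 * d' - N' 0 0 ^ 2 * hdet'
  -- real combinations
  have hNR : IsReal D ε N := (hH V hV).sub (IsReal.one ε)
  have hN'R : IsReal D ε N' := by
    have h1 := (hH V' hV').sub (IsReal.one (D := D) ε)
    rwa [hV'N, add_sub_cancel_left] at h1
  have hnσ : D.σ n = n := by
    have h1 := hNR.mul hε hεσ hN'R
    rw [hn_def, Matrix.trace_fin_two, h1.1, map_add, Fld.σσ, add_comm]
  set E : M2 := n⁻¹ • (N * N') with hE
  set E' : M2 := n⁻¹ • (N' * N) with hE'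
  have hEE' : E + E' = 1 := by rw [hE, hE', ← smul_add, r3, smul_smul, inv_mul_cancel₀ hn0, one_smul]
  let c : ZMod p →+* F := ZMod.castHom dvd_rfl F
  have hcσ : ∀ x : ZMod p, D.σ (c x) = c x := fun x => by
    rw [← ZMod.natCast_zmod_val x, map_natCast, Fld.σ_natCast]
  have hN2' := hN2
  have eE : E * E = E := by
    rw [hE, Matrix.smul_mul, Matrix.mul_smul, smul_smul, ← Matrix.mul_assoc, r1, Matrix.smul_mul, smul_smul,
      mul_assoc, inv_mul_cancel₀ hn0, mul_one]
  have eE' : E' * E' = E' := by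
    rw [hE', Matrix.smul_mul, Matrix.mul_smul, smul_smul, ← Matrix.mul_assoc, r2, Matrix.smul_mul, smul_smul,
      mul_assoc, inv_mul_cancel₀ hn0, mul_one]
  have eN : N * E' = N ∧ E * N = N ∧ N * E = 0 ∧ E' * N = 0 := by
    refine ⟨?_, ?_, ?_, ?_⟩ <;>
      simp only [hE, hE', Matrix.mul_smul, Matrix.smul_mul, ← Matrix.mul_assoc]
    · rw [r1, smul_smul, inv_mul_cancel₀ hn0, one_smul]
    · rw [r1, smul_smul, inv_mul_cancel₀ hn0, one_smul]
    · rw [hN2, Matrix.zero_mul, smul_zero]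
    · rw [Matrix.mul_assoc N' N N, hN2, Matrix.mul_zero, smul_zero]
  have eN' : N' * E = N' ∧ E' * N' = N' ∧ N' * E' = 0 ∧ E * N' = 0 := by
    refine ⟨?_, ?_, ?_, ?_⟩ <;>
      simp only [hE, hE', Matrix.mul_smul, Matrix.smul_mul, ← Matrix.mul_assoc]
    · rw [r2, smul_smul, inv_mul_cancel₀ hn0, one_smul]
    · rw [r2, smul_smul, inv_mul_cancel₀ hn0, one_smul]
    · rw [hN'2, Matrix.zero_mul, smul_zero]
    · rw [Matrix.mul_assoc N N' N', hN'2, Matrix.mul_zero, smul_zero]
  have eEE : E * E' = 0 ∧ E' * E = 0 := by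
    constructor
    · rw [hE', Matrix.mul_smul, ← Matrix.mul_assoc, eN'.2.2.2, Matrix.zero_mul, smul_zero]
    · rw [hE, Matrix.mul_smul, ← Matrix.mul_assoc, eN.2.2.2, Matrix.zero_mul, smul_zero]
  have eNN : N * N' = n • E ∧ N' * N = n • E' := by
    constructor <;> simp only [hE, hE'] <;> rw [smul_smul, mul_inv_cancel₀ hn0, one_smul]
  let ι : Matrix (Fin 2) (Fin 2) (ZMod p) → M2 := fun T =>
    c (T 0 0) • E + c (T 0 1) • N + c (T 1 0) • (n⁻¹ • N') + c (T 1 1) • E'
  have ι_mul : ∀ T T', ι (T * T') = ι T * ι T' := by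
    intro T T'
    simp only [ι, Matrix.mul_apply, Fin.sum_univ_two, map_add, map_mul, Matrix.add_mul, Matrix.mul_add,
      Matrix.smul_mul, Matrix.mul_smul, smul_smul, eE, eE', eN.1, eN.2.1, eN.2.2.1, eN.2.2.2, eN'.1,
      eN'.2.1, eN'.2.2.1, eN'.2.2.2, eEE.1, eEE.2, eNN.1, eNN.2, hN2, hN'2, smul_zero, add_zero, zero_add]
    match_scalars <;> field_simp <;> ring
  have ι_one : ι 1 = 1 := by simp [ι, hEE']
  have ι_inj : Function.Injective ι := by
    intro T T' h
    have e1 : ι T * E = ι T' * E := by rw [h]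
    have e2 : ι T * E' = ι T' * E' := by rw [h]
    simp only [ι, Matrix.add_mul, Matrix.smul_mul, eE, eE', eN.1, eN.2.2.1, eN'.1, eN'.2.2.1, eEE.1,
      eEE.2, smul_zero, add_zero, zero_add] at e1 e2
    have f1 := congrArg (fun Z => E * Z) e1
    have f2 := congrArg (fun Z => E' * Z) e1
    have f3 := congrArg (fun Z => E * Z) e2
    have f4 := congrArg (fun Z => E' * Z) e2
    simp only [Matrix.mul_add, Matrix.mul_smul, eE, eE', eN.2.1, eN.2.2.2, eN'.2.1, eN'.2.2.2, eEE.1,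
      eEE.2, smul_zero, add_zero, zero_add] at f1 f2 f3 f4
    have hne : E ≠ 0 ∧ E' ≠ 0 ∧ n⁻¹ • N' ≠ 0 := by
      refine ⟨fun h0 => hN0 ?_, fun h0 => hN0 ?_, fun h0 => hgN ?_⟩
      · rw [← eN.2.1, h0, Matrix.zero_mul]
      · rw [← eN.1, h0, Matrix.mul_zero]
      · show N * N' = 0
        rw [(smul_eq_zero.1 h0).resolve_left (inv_ne_zero hn0), Matrix.mul_zero]
    have hinj : Function.Injective c := c.injective
    ext i k
    fin_cases i <;> fin_cases k
    · exact hinj (smul_left_injective F hne.1 f1)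
    · exact hinj (smul_left_injective F hN0 f3)
    · exact hinj (smul_left_injective F hne.2.2 f2)
    · exact hinj (smul_left_injective F hne.2.1 f4)
  -- every real matrix is such a combination
  let Rs := {Z : M2 // IsReal D ε Z}
  have hι : ∀ T, IsReal D ε (ι T) := fun T => by
    have hinv : D.σ n⁻¹ = n⁻¹ := by rw [map_inv₀, hnσ]
    exact ((((hNR.mul hε hεσ hN'R).smul hinv).smul (hcσ _)).add (hNR.smul (hcσ _))).add
      ((hN'R.smul hinv).smul (hcσ _)) |>.add (((hN'R.mul hε hεσ hNR).smul hinv).smul (hcσ _))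
  let ι' : Matrix (Fin 2) (Fin 2) (ZMod p) → Rs := fun T => ⟨ι T, hι T⟩
  have hsurj : Function.Surjective ι' := by
    have hi : Function.Injective ι' := fun T T' h => ι_inj (congrArg Subtype.val h)
    refine ((Nat.bijective_iff_injective_and_card ι').2 ⟨hi, ?_⟩).2
    refine le_antisymm (Nat.card_le_card_of_injective ι' hi) ?_
    have h1 : Nat.card Rs ≤ Nat.card (F × F) :=
      Nat.card_le_card_of_injective (fun Z : Rs => ((Z.1 0 0, Z.1 0 1) : F × F)) fun Z Z' h => by
        obtain ⟨h00, h01⟩ := Prod.ext_iff.1 h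
        have h00' : Z.1 0 0 = Z'.1 0 0 := h00
        have h01' : Z.1 0 1 = Z'.1 0 1 := h01
        refine Subtype.ext ?_
        ext i k
        fin_cases i <;> fin_cases k
        · exact h00'
        · exact h01'
        · show Z.1 1 0 = Z'.1 1 0; rw [Z.2.2, Z'.2.2, h01']
        · show Z.1 1 1 = Z'.1 1 1; rw [Z.2.1, Z'.2.1, h00']
    refine h1.trans_eq ?_
    show Nat.card (F × F) = Nat.card (Fin 2 → Fin 2 → ZMod p)
    rw [Nat.card_prod, Nat.card_eq_fintype_card (α := F), D.card, Nat.card_fun, Nat.card_fun,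
      Nat.card_zmod, Nat.card_fin]
    ring
  obtain ⟨T, hT⟩ := hsurj ⟨X, hX⟩
  have hTX : ι T = (X : M2) := congrArg Subtype.val hT
  -- transvections are in the preimage
  let K : Subgroup (Matrix.SpecialLinearGroup (Fin 2) (ZMod p)) :=
    { carrier := {T | ∃ Y ∈ H, (Y : M2) = ι T}
      one_mem' := ⟨1, one_mem _, by rw [Matrix.SpecialLinearGroup.coe_one, Matrix.SpecialLinearGroup.coe_one, ι_one]⟩
      mul_mem' := by
        rintro T T' ⟨Y, hY, e⟩ ⟨Y', hY', e'⟩
        exact ⟨Y * Y', mul_mem hY hY', by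
          rw [Matrix.SpecialLinearGroup.coe_mul, e, e', Matrix.SpecialLinearGroup.coe_mul, ι_mul]⟩
      inv_mem' := by
        rintro T ⟨Y, hY, e⟩
        refine ⟨Y⁻¹, inv_mem hY, ?_⟩
        have h1 : ((Y⁻¹ : S2) : M2) * (Y : M2) = 1 := by
          rw [← Matrix.SpecialLinearGroup.coe_mul, inv_mul_cancel, Matrix.SpecialLinearGroup.coe_one]
        refine left_inv_eq_right_inv h1 ?_
        rw [e, ← ι_mul, ← Matrix.SpecialLinearGroup.coe_mul, mul_inv_cancel, Matrix.SpecialLinearGroup.coe_one,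
          ι_one] }
  have htop : K = ⊤ := Cfsg.Agent.Linear.eq_top_of_transvection_mem fun i k hik x => by
    obtain ⟨m, hm⟩ : ∃ m : ℕ, (m : F) = c x := ⟨x.val, by rw [← map_natCast c, ZMod.natCast_zmod_val]⟩
    obtain ⟨m', hm'⟩ : ∃ m' : ℕ, (m' : F) = c x / n := D.exists_natCast (by rw [map_div₀, hcσ, hnσ])
    have hcase : (i = 0 ∧ k = 1) ∨ (i = 1 ∧ k = 0) := by revert i k; decide
    rcases hcase with ⟨rfl, rfl⟩ | ⟨rfl, rfl⟩
    · refine ⟨V ^ m, pow_mem hV m, ?_⟩
      rw [Matrix.SpecialLinearGroup.coe_pow, hVN, pow_one_add hN2, hm]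
      simp [ι, Matrix.SpecialLinearGroup.transvection_coe, Matrix.transvection, hEE', ← add_assoc]
      rw [add_right_comm, hEE']
    · refine ⟨V' ^ m', pow_mem hV' m', ?_⟩
      rw [Matrix.SpecialLinearGroup.coe_pow, hV'N, pow_one_add hN'2, hm', div_eq_mul_inv, ← smul_smul]
      simp [ι, Matrix.SpecialLinearGroup.transvection_coe, Matrix.transvection]
      rw [add_right_comm, hEE']
  have hdetT : T.det = 1 := by
    apply c.injective
    rw [map_one]
    have hX1 := X.2
    rw [← hTX] at hX1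
    -- determinants agree
    have hd : (ι T).det = c T.det := by
      rw [Matrix.det_fin_two T, map_sub, map_mul, map_mul]
      have hprod : ι T * ι T.adjugate = (c (T 0 0) * c (T 1 1) - c (T 0 1) * c (T 1 0)) • (1 : M2) := by
        rw [← ι_mul, Matrix.mul_adjugate, Matrix.det_fin_two]
        simp [ι, Matrix.one_apply, map_sub, map_mul, ← smul_add, hEE']
      have hadj : ι T + ι T.adjugate = (c (T 0 0) + c (T 1 1)) • (1 : M2) := by
        simp only [ι, Matrix.adjugate_fin_two, Matrix.cons_val_zero, Matrix.cons_val_one, Matrix.of_apply,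
          Matrix.cons_val', Matrix.cons_val_fin_one, map_neg]
        rw [← hEE']
        module
      have htrι : (ι T).trace = c (T 0 0) + c (T 1 1) := by
        have htE : E.trace = 1 := by rw [hE, Matrix.trace_smul, ← hn_def, smul_eq_mul, inv_mul_cancel₀ hn0]
        have htE' : E'.trace = 1 := by
          rw [hE', Matrix.trace_smul, Matrix.trace_mul_comm, ← hn_def, smul_eq_mul, inv_mul_cancel₀ hn0]
        simp only [ι, Matrix.trace_add, Matrix.trace_smul, htE, htE', (hnil2 hN2).1, (hnil2 hN'2).1,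
          smul_eq_mul, mul_one, mul_zero, add_zero]
      rw [eq_sub_of_add_eq' hadj] at hprod
      have h00 := congrFun (congrFun hprod 0) 0
      rw [Matrix.mul_sub, Matrix.mul_smul, mul_one] at h00
      simp [Matrix.mul_apply, Fin.sum_univ_two] at h00
      rw [Matrix.trace_fin_two] at htrι
      rw [Matrix.det_fin_two]
      linear_combination h00 + (ι T 0 0) * htrι
    rw [← hd, hX1]
  let T₀ : Matrix.SpecialLinearGroup (Fin 2) (ZMod p) := ⟨T, hdetT⟩
  have hmem : T₀ ∈ K := by rw [htop]; exact Subgroup.mem_top T₀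
  obtain ⟨Y, hY, e⟩ := hmem
  have : Y = X := Subtype.ext (e.trans hTX)
  exact this ▸ hY

end Cfsg.Agent.H76.SUThreeCSix
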