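import Cfsg.Agent.H1.HeisThree.Model
import Cfsg.Agent.H36.SUThreeGeo.Basic
import Cfsg.Agent.Unitary.Form

/-!
The field with `p²` elements, `p ≡ 2 (mod 3)`, and unitarity of the Heisenberg normaliser.
-/

set_option autoImplicit false

open Cfsg

namespace Cfsg.Agent.H76.SUThreeCSix

open Matrix
open Cfsg.Agent.H1.HeisThree (Cube)

/-- The setting. -/
structure Fld (F : Type*) [Field F] [Fintype F] (p : ℕ) where
  prime : p.Prime
  card : Fintype.card F = p ^ 2
  three : p % 3 = 2
  big : 11 ≤ p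
  C : Cube F

variable {F : Type*} [Field F] [Fintype F] {p : ℕ}

namespace Fld

variable (D : Fld F p)

local notation "G" => GL (Fin 3) F
local notation "M3" => Matrix (Fin 3) (Fin 3) F

/-- The conjugation of the field. -/
noncomputable def σ : F ≃+* F := Unitary.frob D.card

theorem σ_apply (x : F) : D.σ x = x ^ p := rfl

theorem σσ (x : F) : D.σ (D.σ x) = x := Unitary.pow_q_q D.card x

include D in
theorem charP : CharP F p := by
  obtain ⟨n, hc, hn⟩ := FiniteField.card F (ringChar F)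
  have h : ringChar F = p := by
    have h1 : ringChar F ∣ p ^ 2 := by rw [← D.card, hn]; exact dvd_pow_self _ n.ne_zero
    exact (Nat.prime_dvd_prime_iff_eq hc D.prime).1 (hc.dvd_of_dvd_pow h1)
  exact h ▸ ringChar.charP F

include D in
theorem cast_ne_zero {n : ℕ} (h : ¬ p ∣ n) : (n : F) ≠ 0 := fun h0 =>
  h ((@CharP.cast_eq_zero_iff F _ p D.charP n).1 h0)

include D in
theorem two_ne_zero : (2 : F) ≠ 0 := by
  have := D.cast_ne_zero (n := 2) fun h => by have := Nat.le_of_dvd (by omega) h; have := D.big; omega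
  exact_mod_cast this

/-- Fixed elements are natural numbers. -/
theorem exists_natCast {x : F} (hx : D.σ x = x) : ∃ n : ℕ, (n : F) = x := by
  have := D.charP
  have := Fact.mk D.prime
  let φ : ZMod p → {x : F // x ^ p = x} := fun a => ⟨(a.val : F), Unitary.natCast_pow_q D.card _⟩
  have hinj : Function.Injective φ := fun a b h => by
    have h' : ((a.val : ℕ) : F) = (b.val : F) := congrArg Subtype.val h
    rw [CharP.natCast_eq_natCast F p] at h'
    exact ZMod.val_injective p (Nat.ModEq.eq_of_lt_of_lt h' a.val_lt b.val_lt)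
  have hs := (Nat.bijective_iff_injective_and_card φ).2 ⟨hinj, by
    rw [Nat.card_zmod, Unitary.card_fixed D.card]⟩
  obtain ⟨a, ha⟩ := hs.2 ⟨x, hx⟩
  exact ⟨a.val, congrArg Subtype.val ha⟩

theorem σ_natCast (n : ℕ) : D.σ (n : F) = n := map_natCast D.σ n

theorem σ_ω : D.σ D.C.ω = D.C.ω ^ 2 := by
  have e : p = 3 * (p / 3) + 2 := by have := D.three; omega
  rw [σ_apply]
  conv_lhs => arg 2; rw [e]
  rw [pow_add, pow_mul, D.C.cube, one_pow, one_mul]

theorem σ_ch (i : ZMod 3) : D.σ (D.C.ch i) = D.C.ch (-i) := by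
  obtain rfl | rfl | rfl : i = 0 ∨ i = 1 ∨ i = 2 := by revert i; decide
  · simp [Cube.ch_zero]
  · rw [show -(1 : ZMod 3) = 2 from rfl, Cube.ch_one, Cube.ch_two, σ_ω]
  · rw [show -(2 : ZMod 3) = 1 from rfl, Cube.ch_one, Cube.ch_two, map_pow, σ_ω, ← pow_mul]
    rw [show 2 * 2 = 3 + 1 from rfl, pow_add, D.C.cube, one_mul, pow_one]

theorem σ_s : D.σ D.C.s = -D.C.s := by
  rw [Cube.s, map_inv₀, map_add, map_mul, map_one, map_ofNat, σ_ω, ← inv_neg]
  congr 1
  linear_combination 2 * D.C.sq_add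

theorem mem_GU {g : G} :
    g ∈ Cfsg.GU 3 F p ↔ ∀ i j, ∑ k, (g : M3) k i * D.σ ((g : M3) k j) = if i = j then 1 else 0 := by
  have col : ∀ i, (g : M3) *ᵥ Pi.single i 1 = fun k => (g : M3) k i := fun i => by
    ext k; simp
  constructor
  · intro h i j
    have h' : hermForm 3 F p ((g : M3) *ᵥ Pi.single i 1) ((g : M3) *ᵥ Pi.single j 1) =
        hermForm 3 F p (Pi.single i 1) (Pi.single j 1) := h _ _
    rw [col, col, Unitary.herm_single_single D.card] at h'
    exact h'
  · intro h u v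
    show hermForm 3 F p ((g : M3) *ᵥ u) ((g : M3) *ᵥ v) = hermForm 3 F p u v
    have e : ∀ w : Fin 3 → F, (g : M3) *ᵥ w = ∑ i, w i • fun k => (g : M3) k i := fun w => by
      ext k; simp [Matrix.mulVec, dotProduct, mul_comm]
    rw [e u, e v, Unitary.herm_sum_left]
    refine Finset.sum_congr rfl fun i _ => ?_
    rw [Unitary.herm_smul_left, Unitary.herm_sum_right D.card, Finset.sum_eq_single i]
    · rw [Unitary.herm_smul_right]
      have := h i i
      rw [if_pos rfl] at this
      rw [show hermForm 3 F p (fun k => (g : M3) k i) (fun k => (g : M3) k i) = 1 from this, mul_one]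
    · intro j _ hj
      rw [Unitary.herm_smul_right]
      have := h i j
      rw [if_neg (Ne.symm hj)] at this
      rw [show hermForm 3 F p (fun k => (g : M3) k i) (fun k => (g : M3) k j) = 0 from this, mul_zero]
    · simp

/-- The inverse of a unitary element. -/
theorem inv_apply {g : G} (hg : g ∈ Cfsg.GU 3 F p) (i j : Fin 3) :
    ((g⁻¹ : G) : M3) i j = D.σ ((g : M3) j i) := by
  have h : (Matrix.of fun a b => D.σ ((g : M3) b a)) * (g : M3) = 1 := by
    ext a b
    rw [Matrix.mul_apply, Matrix.one_apply]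
    have := congrArg D.σ ((D.mem_GU.1 hg) a b)
    rw [map_sum] at this
    simp only [map_mul, σσ, Matrix.of_apply] at this ⊢
    rw [this]
    split <;> simp
  rw [Units.inv_eq_of_mul_eq_one_left h]
  rfl

local notation "M3'" => Matrix (ZMod 3) (ZMod 3) F

/-- The unitary group, indexed by the integers modulo three. -/
def U3 (_D : Fld F p) : Subgroup (GL (ZMod 3) F) := (Cfsg.GU 3 F p : Subgroup (GL (Fin 3) F))

theorem mem_U3 {g : GL (ZMod 3) F} : g ∈ D.U3 ↔
    ∀ i j : ZMod 3, ∑ k : ZMod 3, (g : M3') k i * D.σ ((g : M3') k j) = if i = j then 1 else 0 :=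
  D.mem_GU

theorem U3_inv_apply {g : GL (ZMod 3) F} (hg : g ∈ D.U3) (i j : ZMod 3) :
    ((g⁻¹ : GL (ZMod 3) F) : M3') i j = D.σ ((g : M3') j i) := D.inv_apply hg i j

theorem W_mem (v : ZMod 3 × ZMod 3) : D.C.W v ∈ D.U3 := D.mem_U3.2 fun i j => by
  simp only [Cube.coe_W, Cube.wMat_apply, apply_ite D.σ, map_zero, σ_ch, ite_mul, zero_mul,
    Finset.sum_ite_eq', Finset.mem_univ, if_true, add_left_inj]
  split_ifs with h <;> first | (subst h; exact D.C.ch_mul_neg _) | simp_all

theorem S_mem : D.C.S ∈ D.U3 := D.mem_U3.2 fun i j => by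
  simp only [Cube.coe_S, map_mul, σ_s, σ_ch]
  rw [Finset.sum_congr rfl fun k _ => show D.C.s * D.C.ch (k * i) * (-D.C.s * D.C.ch (-(k * j))) =
      -(D.C.s * D.C.s) * D.C.ch (k * (i - j)) by
    rw [show k * (i - j) = k * i + -(k * j) by ring, D.C.ch_add]; ring,
    ← Finset.mul_sum, D.C.sum_ch_mul]
  by_cases h : i = j
  · subst h
    rw [if_pos rfl, if_pos (sub_self _)]
    linear_combination -D.C.s_sq
  · rw [if_neg h, if_neg (sub_ne_zero.2 h), mul_zero]

theorem y_mem : D.C.y ∈ D.U3 := D.mem_U3.2 fun i j => by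
  simp only [Cube.y, Matrix.diagonal_apply, apply_ite D.σ, map_zero, σ_ch, ite_mul, zero_mul,
    Finset.sum_ite_eq', Finset.mem_univ, if_true]
  split_ifs with h <;> first | (subst h; exact D.C.ch_mul_neg _) | simp_all

theorem flip_mem : D.C.flip ∈ D.U3 := by rw [← D.C.S_mul_S]; exact mul_mem D.S_mem D.S_mem

/-- Scalars of norm one. -/
theorem sc_mem {c : Fˣ} (h : (c : F) * D.σ c = 1) : (H1.HeisThree.sc c : GL (ZMod 3) F) ∈ D.U3 :=
  D.mem_U3.2 fun i j => by
    simp only [H1.HeisThree.coe_sc, Matrix.smul_apply, Matrix.one_apply, smul_eq_mul, mul_ite, mul_one,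
      mul_zero, apply_ite D.σ, map_zero, ite_mul, zero_mul, Finset.sum_ite_eq', Finset.mem_univ, if_true]
    split_ifs with e <;> simp_all

end Fld

end Cfsg.Agent.H76.SUThreeCSix
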