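import Cfsg.Agent.H76.SUThreeCSix.Block
import Cfsg.Agent.H76.SUThreeCSix.Real

/-!
No orthogonal subgroup lies in an overgroup of the Heisenberg normaliser.
-/

set_option autoImplicit false

open Cfsg

namespace Cfsg.Agent.H76.SUThreeCSix

open Matrix
open Cfsg.Agent.H1.HeisThree (Cube sum3 neg_one_T3 neg_two_T3 one_ne_two_T3 two_ne_one_T3
  zero_ne_two_T3 two_ne_zero_T3)

variable {F : Type*} [Field F] [Fintype F] {p : ℕ} {D : Fld F p} {M : Subgroup (GL (ZMod 3) F)}

local notation "T3" => ZMod 3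
local notation "M3" => Matrix (ZMod 3) (ZMod 3) F
local notation "G3" => GL (ZMod 3) F
local notation "M2" => Matrix (Fin 2) (Fin 2) F
local notation "S2" => Matrix.SpecialLinearGroup (Fin 2) F

omit [Fintype F] in
theorem proj_eq_of {X Y : S2} (h : (X : M2) = Y ∨ (X : M2) = -Y) : proj X = proj Y := by
  rcases h with h | h
  · rw [Subtype.ext h]
  · rw [← mul_inv_eq_one, ← map_inv, ← map_mul]
    refine proj_eq_one.2 (Or.inr ?_)
    rw [Matrix.SpecialLinearGroup.coe_mul, h, Matrix.neg_mul, ← Matrix.SpecialLinearGroup.coe_mul,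
      mul_inv_cancel, Matrix.SpecialLinearGroup.coe_one]

omit [Fintype F] in
theorem eq_or_neg_of_proj {X Y : S2} (h : proj X = proj Y) : (X : M2) = Y ∨ (X : M2) = -Y := by
  rw [← mul_inv_eq_one, ← map_inv, ← map_mul] at h
  have hX : (X : M2) = ((X * Y⁻¹ : S2) : M2) * (Y : M2) := by
    rw [← Matrix.SpecialLinearGroup.coe_mul, inv_mul_cancel_right]
  rcases proj_eq_one.1 h with e | e <;> rw [e] at hX
  · exact Or.inl (by rw [hX, one_mul])
  · exact Or.inr (by rw [hX, Matrix.neg_mul, one_mul])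

theorem ω_pow_three (D : Fld F p) (j : ℕ) : (D.C.ω ^ j) ^ 3 = 1 := by
  rw [← pow_mul, mul_comm, pow_mul, D.C.cube, one_pow]

/-- The elements of the four group. -/
def Fld.X (D : Fld F p) (j : ℕ) : S2 :=
  ⟨D.C.s • !![1, 2 * (D.C.ω ^ j) ^ 2; D.C.ω ^ j, -1], by
    rw [Matrix.det_smul, Fintype.card_fin, Matrix.det_fin_two_of]
    linear_combination -D.C.s_sq - 2 * D.C.s * D.C.s * ω_pow_three D j⟩

theorem coe_X (D : Fld F p) (j : ℕ) :
    (D.X j : M2) = D.C.s • !![1, 2 * (D.C.ω ^ j) ^ 2; D.C.ω ^ j, -1] := rfl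

theorem X_sq (D : Fld F p) (j : ℕ) : (D.X j : M2) * D.X j = -1 := by
  rw [coe_X, Matrix.smul_mul, Matrix.mul_smul, smul_smul]
  ext i k
  fin_cases i <;> fin_cases k <;> simp [Matrix.mul_apply, Fin.sum_univ_two]
  all_goals
    first
    | linear_combination D.C.s_sq + 2 * D.C.s * D.C.s * ω_pow_three D j
    | ring

/-- The lifts of the four group. -/
theorem phi_conj_S (D : Fld F p) (j : ℕ) :
    ∃ g : D.C.Hgrp, (g : G3) = D.C.y ^ j * D.C.S * (D.C.y ^ j)⁻¹ ∧ (D.C.phi g : M2) = D.X j ∧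
      (D.C.mu g : F) = 1 := by
  let Y : D.C.Hgrp := ⟨_, D.C.y_mem⟩
  let S : D.C.Hgrp := ⟨_, D.C.S_mem⟩
  refine ⟨Y ^ j * S * (Y ^ j)⁻¹, by simp [Y, S], ?_, ?_⟩
  · have hYj : ∀ n : ℕ, ((D.C.phi Y ^ n : GL (Fin 2) F) : M2) = !![1, 0; 0, D.C.ω ^ n] := by
      intro n
      induction n with
      | zero => ext i k; fin_cases i <;> fin_cases k <;> simp
      | succ n ih =>
        rw [pow_succ, Units.val_mul, ih, show (D.C.phi Y : M2) = !![1, 0; 0, D.C.ω] from D.C.phi_y]
        ext i k; fin_cases i <;> fin_cases k <;> simp [pow_succ]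
    have hinv : (((D.C.phi Y ^ j)⁻¹ : GL (Fin 2) F) : M2) = !![1, 0; 0, (D.C.ω ^ j) ^ 2] := by
      refine Units.inv_eq_of_mul_eq_one_left ?_
      rw [hYj]
      ext i k; fin_cases i <;> fin_cases k <;> simp
      linear_combination ω_pow_three D j
    rw [map_mul, map_mul, map_inv, map_pow, Units.val_mul, Units.val_mul, hYj, hinv,
      show (D.C.phi S : M2) = _ from D.C.phi_S, coe_X]
    ext i k
    fin_cases i <;> fin_cases k <;> simp [Matrix.mul_apply, Fin.sum_univ_two]
    all_goals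
      first
      | linear_combination -D.C.s * ω_pow_three D j
      | linear_combination D.C.s * ω_pow_three D j
      | ring
  · rw [map_mul, map_mul, map_inv, mul_right_comm, mul_inv_cancel, one_mul]
    exact D.C.mu_S

theorem Over.X_mem (h : Over D M) (j : ℕ) : D.X j ∈ KC D M := by
  obtain ⟨g, hg, hphi, -⟩ := phi_conj_S D j
  exact ⟨g, hg ▸ h.Sj j, 1, one_ne_zero, by rw [one_smul]; exact hphi⟩

theorem X_mul (D : Fld F p) :
    (D.X 0 : M2) * D.X 1 = D.X 2 ∧ (D.X 1 : M2) * D.X 0 = -(D.X 2 : M2) := by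
  have hs : D.C.s * (1 + 2 * D.C.ω) = 1 := inv_mul_cancel₀ D.C.root_ne_zero
  constructor <;> rw [coe_X, coe_X, coe_X] <;> ext i k <;> fin_cases i <;> fin_cases k <;>
    simp [Matrix.mul_apply, Fin.sum_univ_two]
  · linear_combination D.C.s * hs
  · linear_combination 2 * D.C.s * D.C.ω ^ 4 * hs - 2 * D.C.s * D.C.s * D.C.sq_add -
      2 * D.C.s * D.C.s * (D.C.ω + 2 * D.C.ω ^ 2) * D.C.cube
  · linear_combination D.C.s * D.C.ω ^ 2 * hs - D.C.s * D.C.s * D.C.sq_add - 2 * D.C.s * D.C.s * D.C.cube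
  · linear_combination -D.C.s * hs + 2 * D.C.s * D.C.s * D.C.sq_add
  · linear_combination -D.C.s * hs + 2 * D.C.s * D.C.s * D.C.sq_add
  · linear_combination -(2 * D.C.s * D.C.ω ^ 4) * hs + 2 * D.C.s * D.C.s * D.C.sq_add +
      2 * D.C.s * D.C.s * (D.C.ω + 2 * D.C.ω ^ 2) * D.C.cube
  · linear_combination -(D.C.s * D.C.ω ^ 2) * hs + D.C.s * D.C.s * D.C.sq_add + 2 * D.C.s * D.C.s * D.C.cube
  · linear_combination D.C.s * hs

/-- Elements of given multiplicative order. -/
theorem exists_primRoot (D : Fld F p) {d : ℕ} (hd : d ∣ p ^ 2 - 1) : ∃ z : F, IsPrimitiveRoot z d := by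
  classical
  obtain ⟨g, hg⟩ := IsCyclic.exists_generator (α := Fˣ)
  have h1 : orderOf g = p ^ 2 - 1 := by
    rw [orderOf_eq_card_of_forall_mem_zpowers hg, Nat.card_eq_fintype_card, Fintype.card_units, D.card]
  obtain ⟨e, he⟩ := hd
  have hpos : 0 < p ^ 2 - 1 := h1 ▸ orderOf_pos g
  have hg' : IsPrimitiveRoot g (p ^ 2 - 1) := h1 ▸ IsPrimitiveRoot.orderOf g
  have hge : IsPrimitiveRoot (g ^ e) d := hg'.pow hpos (by rw [he, mul_comm])
  exact ⟨_, IsPrimitiveRoot.coe_units_iff.2 hge⟩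

/-- The torus on symmetric vectors. -/
def rot (m w : F) : M2 := !![(w + w⁻¹) / 2, (w - w⁻¹) / m; m * (w - w⁻¹) / 4, (w + w⁻¹) / 2]

theorem rot_mul {m : F} (hm : m ≠ 0) (h2 : (2 : F) ≠ 0) {v w : F} (hv : v ≠ 0) (hw : w ≠ 0) :
    rot m v * rot m w = rot m (v * w) := by
  have h4 : (4 : F) ≠ 0 := by rw [show (4 : F) = 2 * 2 by norm_num]; exact mul_ne_zero h2 h2
  ext i k
  fin_cases i <;> fin_cases k <;> simp [rot, Matrix.mul_apply, Fin.sum_univ_two] <;> field_simp <;> ring

theorem rot_pow {m : F} (hm : m ≠ 0) (h2 : (2 : F) ≠ 0) {w : F} (hw : w ≠ 0) (n : ℕ) :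
    rot m w ^ n = rot m (w ^ n) := by
  induction n with
  | zero => ext i k; fin_cases i <;> fin_cases k <;> simp [rot] <;> field_simp <;> ring
  | succ n ih => rw [pow_succ, ih, rot_mul hm h2 (pow_ne_zero _ hw) hw, pow_succ]

theorem rot_scalar {m : F} (hm : m ≠ 0) {w : F} (hw : w ≠ 0) (h : rot m w = 1 ∨ rot m w = -1) :
    w * w = 1 := by
  have : (w - w⁻¹) / m = 0 := by
    rcases h with h | h <;> simpa [rot] using congrFun (congrFun h 0) 1
  have h1 := sub_eq_zero.1 ((div_eq_zero_iff.1 this).resolve_right hm)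
  nth_rw 2 [h1]
  exact mul_inv_cancel₀ hw

set_option maxHeartbeats 1000000 in
/-- An overgroup contains no orthogonal group through the flip. -/
theorem Over.no_real (h : Over D M) {m : F} (hm : m ≠ 0) {ε : F} (hε : ε = 1 ∨ ε = -1)
    (hall : ∀ X : S2, IsReal D ε (X : M2) → X ∈ symPre hm M) : False := by
  have h2 := D.two_ne_zero
  have hb := D.big
  have hp := D.prime
  have := Fact.mk hp
  have hs : D.C.s ≠ 0 := inv_ne_zero D.C.root_ne_zero
  set H : Subgroup (Matrix.ProjectiveSpecialLinearGroup (Fin 2) F) := (KC D M).map proj with hH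
  have hsm : SmallImg H := h.KC_small
  let el : ∀ {X : S2}, X ∈ KC D M → H := fun {X} hX => ⟨proj X, Subgroup.mem_map_of_mem _ hX⟩
  -- the rotations
  obtain ⟨n₀, z, hzp, hn₀, hzσ⟩ : ∃ (n₀ : ℕ) (z : F), IsPrimitiveRoot z n₀ ∧
      (n₀ = p - 1 ∨ n₀ = p + 1) ∧ D.σ (z - z⁻¹) = ε * (z - z⁻¹) ∧ D.σ (z + z⁻¹) = z + z⁻¹ := by
    have hdvd : p - 1 ∣ p ^ 2 - 1 ∧ p + 1 ∣ p ^ 2 - 1 := by
      rw [show p ^ 2 - 1 = (p + 1) * (p - 1) from Nat.sq_sub_sq p 1]
      exact ⟨dvd_mul_left _ _, dvd_mul_right _ _⟩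
    rcases hε with rfl | rfl
    · obtain ⟨z, hz⟩ := exists_primRoot D hdvd.1
      have hzσ : D.σ z = z := by
        rw [D.σ_apply, ← Nat.sub_add_cancel (show 1 ≤ p by omega), pow_succ, hz.pow_eq_one, one_mul]
      exact ⟨_, z, hz, Or.inl rfl, by rw [map_sub, map_inv₀, hzσ, one_mul],
        by rw [map_add, map_inv₀, hzσ]⟩
    · obtain ⟨z, hz⟩ := exists_primRoot D hdvd.2
      have hzσ : D.σ z = z⁻¹ := by
        refine eq_inv_of_mul_eq_one_left ?_
        rw [D.σ_apply, ← pow_succ, hz.pow_eq_one]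
      exact ⟨_, z, hz, Or.inr rfl, by rw [map_sub, map_inv₀, hzσ, inv_inv]; ring,
        by rw [map_add, map_inv₀, hzσ, inv_inv, add_comm]⟩
  have hz0 : z ≠ 0 := hzp.ne_zero (by omega)
  set a := (z + z⁻¹) / 2 with ha
  set k := (z - z⁻¹) / 2 with hk
  have hz2 : z * z ≠ 0 := mul_ne_zero hz0 hz0
  let E : S2 := ⟨rot m (z * z), by
    have h4 : (4 : F) ≠ 0 := by rw [show (4 : F) = 2 * 2 by norm_num]; exact mul_ne_zero h2 h2
    rw [Matrix.det_fin_two, rot]
    simp
    field_simp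
    ring⟩
  have hE : E ∈ KC D M := by
    obtain ⟨g, hg, hgX⟩ := hall ⟨!![a, k; k, a], by
        rw [Matrix.det_fin_two_of, ha, hk]; field_simp; ring⟩ (by
        refine ⟨?_, ?_⟩
        · show a = D.σ a
          rw [ha, map_div₀, hzσ.2, map_ofNat]
        · show k = ε * D.σ k
          rw [hk, map_div₀, hzσ.1, map_ofNat, ← mul_div_assoc, ← mul_assoc]
          rcases hε with rfl | rfl <;> simp)
    obtain ⟨r0, r1, r2⟩ := sym2_row0 m !![a, k; k, a]
    obtain ⟨u0, u1, u2⟩ := sym2_row1 m !![a, k; k, a]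
    obtain ⟨v0, v1, v2⟩ := sym2_row2 m !![a, k; k, a]
    have hgH : g ∈ D.C.Hgrp := D.C.mem_Hgrp_iff.2 fun i j => by
      rw [hgX]
      obtain rfl | rfl | rfl : i = 0 ∨ i = 1 ∨ i = 2 := by revert i; decide
      all_goals obtain rfl | rfl | rfl : j = 0 ∨ j = 1 ∨ j = 2 := by revert j; decide
      all_goals simp [neg_one_T3, neg_two_T3, r0, r1, r2, u0, u1, u2, v0, v1, v2] <;>
        first | exact Or.inl (by ring) | ring
    refine ⟨⟨g, hgH⟩, hg, 1, one_ne_zero, ?_⟩
    rw [one_smul, D.C.coe_phi]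
    show Cube.phiMat g = rot m (z * z)
    have h4 : (4 : F) ≠ 0 := by rw [show (4 : F) = 2 * 2 by norm_num]; exact mul_ne_zero h2 h2
    ext i j
    fin_cases i <;> fin_cases j <;>
      simp [Cube.phiMat, rot, hgX, r0, r1, r2, u0, u1, u2] <;>
      (simp only [ha, hk]; field_simp; ring)
  have hEcoe : ∀ n, ((E ^ n : S2) : M2) = rot m ((z * z) ^ n) := fun n => by
    rw [Matrix.SpecialLinearGroup.coe_pow]; exact rot_pow hm h2 hz2 n
  have hEord : ∀ n, (el hE) ^ n = 1 → n₀ ∣ 4 * n := by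
    intro n hn
    refine hzp.dvd_of_pow_eq_one _ ?_
    have hn' : proj (E ^ n) = 1 := by rw [map_pow]; exact congrArg Subtype.val hn
    have h1 := rot_scalar hm (pow_ne_zero _ hz2) (by rw [← hEcoe]; exact proj_eq_one.1 hn')
    rw [← h1]; ring
  have hXsq : ∀ j, (el (h.X_mem j)) ^ 2 = 1 := fun j => Subtype.ext (by
    show proj (D.X j) ^ 2 = 1
    rw [← map_pow]
    refine proj_eq_one.2 (Or.inr ?_)
    rw [pow_two, Matrix.SpecialLinearGroup.coe_mul]
    exact X_sq D j)
  have hX01 : el (h.X_mem 0) * el (h.X_mem 1) = el (h.X_mem 2) := Subtype.ext (by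
    show proj (D.X 0) * proj (D.X 1) = proj (D.X 2)
    rw [← map_mul]
    exact proj_eq_of (Or.inl (by rw [Matrix.SpecialLinearGroup.coe_mul]; exact (X_mul D).1)))
  have hX10 : el (h.X_mem 1) * el (h.X_mem 0) = el (h.X_mem 2) := Subtype.ext (by
    show proj (D.X 1) * proj (D.X 0) = proj (D.X 2)
    rw [← map_mul]
    exact proj_eq_of (Or.inr (by rw [Matrix.SpecialLinearGroup.coe_mul]; exact (X_mul D).2)))
  -- the diagonal elements
  have hdiag : ∀ b : F, b ≠ 0 → D.σ b = b⁻¹ →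
      ∃ Z : S2, Z ∈ KC D M ∧ (Z : M2) = !![(b ^ 3)⁻¹, 0; 0, b ^ 3] := by
    intro b hb0 hbσ
    obtain ⟨g, hg, hgX⟩ := hall ⟨!![b, 0; 0, b⁻¹], by rw [Matrix.det_fin_two_of]; field_simp; ring⟩
      ⟨by simp [hbσ], by simp⟩
    let d : T3 → F := fun i => if i = 0 then 1 else if i = 1 then b * b else b⁻¹ * b⁻¹
    obtain ⟨r0, r1, r2⟩ := sym2_row0 m !![b, 0; 0, b⁻¹]
    obtain ⟨u0, u1, u2⟩ := sym2_row1 m !![b, 0; 0, b⁻¹]
    obtain ⟨v0, v1, v2⟩ := sym2_row2 m !![b, 0; 0, b⁻¹]
    have hgd : (g : M3) = Matrix.diagonal d := by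
      rw [hgX]
      ext i j
      obtain rfl | rfl | rfl : i = 0 ∨ i = 1 ∨ i = 2 := by revert i; decide
      all_goals obtain rfl | rfl | rfl : j = 0 ∨ j = 1 ∨ j = 2 := by revert j; decide
      all_goals simp [d, r0, r1, r2, u0, u1, u2, v0, v1, v2, hb0, one_ne_two_T3, two_ne_one_T3,
        zero_ne_two_T3, two_ne_zero_T3]
    set g' := D.C.W (1, 0) * g * (D.C.W (1, 0))⁻¹ with hg'
    have hg'd : (g' : M3) = Matrix.diagonal fun i => d (i - 1) := by
      have key : D.C.wMat (1, 0) * Matrix.diagonal d = Matrix.diagonal (fun i => d (i - 1)) * D.C.wMat (1, 0) := by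
        ext i j
        rw [Matrix.mul_diagonal, Matrix.diagonal_mul, Cube.wMat_apply]
        split_ifs with e
        · subst e; simp [mul_comm]
        · ring
      rw [hg', Units.val_mul, Units.val_mul, Cube.coe_W, hgd, key, ← Cube.coe_W, Matrix.mul_assoc,
        Units.mul_inv, mul_one]
    set kk := g * g' * g' with hkk
    have hkd : (kk : M3) = Matrix.diagonal fun i => d i * d (i - 1) * d (i - 1) := by
      rw [hkk, Units.val_mul, Units.val_mul, hgd, hg'd, Matrix.diagonal_mul_diagonal,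
        Matrix.diagonal_mul_diagonal]
    have hg'M : g' ∈ M := mul_mem (mul_mem (h.W _) hg) (inv_mem (h.W _))
    have d0 : d ((0 : T3) - 1) = b⁻¹ * b⁻¹ := by
      rw [show (0 : T3) - 1 = 2 from rfl]; simp [d, two_ne_zero_T3, two_ne_one_T3]
    have d1 : d ((1 : T3) - 1) = 1 := by simp [d]
    have d2 : d ((2 : T3) - 1) = b * b := by rw [show (2 : T3) - 1 = 1 from rfl]; simp [d]
    have hkH : kk ∈ D.C.Hgrp := D.C.mem_Hgrp_iff.2 fun i j => by
      rw [hkd]
      obtain rfl | rfl | rfl : i = 0 ∨ i = 1 ∨ i = 2 := by revert i; decide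
      all_goals obtain rfl | rfl | rfl : j = 0 ∨ j = 1 ∨ j = 2 := by revert j; decide
      all_goals simp [neg_one_T3, neg_two_T3, one_ne_two_T3, two_ne_one_T3, zero_ne_two_T3,
        two_ne_zero_T3, d0, d1, d2]
      all_goals simp [d, two_ne_zero_T3, two_ne_one_T3, show ¬((-1 : T3) = 1) by decide,
        show ¬((-1 : T3) = 0) by decide]
      all_goals field_simp
    refine ⟨⟨!![(b ^ 3)⁻¹, 0; 0, b ^ 3], by
        rw [Matrix.det_fin_two_of]; field_simp; ring⟩, ?_, rfl⟩
    refine ⟨⟨kk, hkH⟩, mul_mem (mul_mem hg hg'M) hg'M, b⁻¹, inv_ne_zero hb0, ?_⟩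
    rw [D.C.coe_phi]
    show Cube.phiMat kk = _
    ext i j
    fin_cases i <;> fin_cases j <;>
      simp [Cube.phiMat, hkd, one_ne_two_T3, zero_ne_two_T3, d0, d1] <;>
      simp [d, two_ne_zero_T3, two_ne_one_T3, show ¬((-1 : T3) = 1) by decide,
        show ¬((-1 : T3) = 0) by decide] <;> field_simp <;> ring
  -- the cases
  by_cases hbig : ∀ n ∈ [2, 3, 4, 5], ¬ n₀ ∣ 4 * n
  · have hcomm : ∀ j, ¬ Commute (el hE) (el (h.X_mem j)) := by
      intro j hc
      have hc' : proj (E * D.X j) = proj (D.X j * E) := by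
        rw [map_mul, map_mul]; exact congrArg Subtype.val hc.eq
      set w := z * z
      have hu : (D.C.ω ^ j) ^ 2 ≠ 0 := pow_ne_zero _ (pow_ne_zero _ D.C.ne_zero)
      have h4 : (4 : F) ≠ 0 := by rw [show (4 : F) = 2 * 2 by norm_num]; exact mul_ne_zero h2 h2
      have hww : ((w - w⁻¹ = 0) ∨ (w + w⁻¹ = 0)) := by
        rcases eq_or_neg_of_proj hc' with e | e <;>
          rw [Matrix.SpecialLinearGroup.coe_mul, Matrix.SpecialLinearGroup.coe_mul, coe_X] at e <;>
          have e01 := congrFun (congrFun e 0) 1 <;>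
          simp [E, rot, Matrix.mul_apply, Fin.sum_univ_two] at e01
        · left
          field_simp at e01
          have h6 : (2 : F) * (w * w - 1) = 0 := by linear_combination -e01
          exact sub_eq_zero.2 (eq_inv_of_mul_eq_one_left (sub_eq_zero.1 ((mul_eq_zero.1 h6).resolve_left h2)))
        · right
          field_simp at e01
          have h6 : ((2 : F) * (D.C.ω ^ j) ^ 2 * m) * (w * w + 1) = 0 := by linear_combination e01
          have hne : (2 : F) * (D.C.ω ^ j) ^ 2 * m ≠ 0 := mul_ne_zero (mul_ne_zero h2 hu) hm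
          have h7 := (mul_eq_zero.1 h6).resolve_left hne
          field_simp
          linear_combination h7
      have hz8 : z ^ 8 = 1 := by
        have hw0 : w ≠ 0 := hz2
        rcases hww with e | e
        · have : w * w = 1 := by
            nth_rw 2 [sub_eq_zero.1 e]; exact mul_inv_cancel₀ hw0
          calc z ^ 8 = (w * w) * (w * w) := by ring
            _ = 1 := by rw [this, one_mul]
        · have : w * w = -1 := by
            nth_rw 2 [eq_neg_of_add_eq_zero_left e]; rw [mul_neg, mul_inv_cancel₀ hw0]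
          calc z ^ 8 = (w * w) * (w * w) := by ring
            _ = 1 := by rw [this]; norm_num
      exact hbig 2 (by simp) (hzp.dvd_of_pow_eq_one _ hz8)
    rcases small_big hsm (hXsq 0) (hXsq 1) (fun n hn e => hbig n hn (hEord n e)) with e | e | e
    · exact hcomm 0 e
    · exact hcomm 1 e
    · exact hcomm 2 (hX01 ▸ e)
  have hp17 : p = 17 ∧ n₀ = 16 ∨ p = 11 := by
    push Not at hbig
    obtain ⟨n, hn, hdvd⟩ := hbig
    have hle : n₀ ≤ 20 := (Nat.le_of_dvd (by fin_cases hn <;> omega) hdvd).trans (by fin_cases hn <;> omega)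
    have h3 := D.three
    have hp23 : p ≤ 21 := by omega
    have hkey : ∀ q : ℕ, q.Prime → 11 ≤ q → q % 3 = 2 → q ≤ 21 → q = 17 ∨ q = 11 := by
      intro q hq h1 h2 h4
      interval_cases q <;> first | omega | (norm_num at hq)
    rcases hkey p hp hb h3 hp23 with e | e
    · left
      refine ⟨e, ?_⟩
      rcases hn₀ with e' | e'
      · omega
      · exfalso
        rw [e', e] at hdvd
        fin_cases hn <;> norm_num at hdvd
    · exact Or.inr e
  have hprim : ∀ {b : F} {d : ℕ}, IsPrimitiveRoot b d → d ∣ p + 1 → b ≠ 0 ∧ D.σ b = b⁻¹ := by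
    intro b d hb hd
    have hd0 : d ≠ 0 := fun e => by subst e; simpa using hd
    refine ⟨hb.ne_zero hd0, eq_inv_of_mul_eq_one_left ?_⟩
    rw [D.σ_apply, ← pow_succ, (hb.pow_eq_one_iff_dvd _).2 hd]
  rcases hp17 with ⟨hp17, hn16⟩ | hp11
  · -- the octahedral case
    obtain ⟨b, hb, hb6⟩ : ∃ b : F, IsPrimitiveRoot b 18 ∧ b ^ 6 = D.C.ω := by
      obtain ⟨b, hb⟩ := exists_primRoot D (d := 18) (by rw [hp17]; norm_num)
      obtain ⟨i, hi, hbi⟩ := D.C.prim.eq_pow_of_pow_eq_one (ξ := b ^ 6)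
        (by rw [← pow_mul]; exact hb.pow_eq_one)
      interval_cases i
      · exact absurd (hb.dvd_of_pow_eq_one 6 (by rw [← hbi, pow_zero])) (by norm_num)
      · exact ⟨b, hb, by rw [← hbi, pow_one]⟩
      · refine ⟨b⁻¹, hb.inv, ?_⟩
        rw [inv_pow, ← hbi]
        refine inv_eq_of_mul_eq_one_right ?_
        rw [← pow_succ, D.C.cube]
    obtain ⟨hb0, hbσ⟩ := hprim hb (by rw [hp17])
    obtain ⟨Z, hZ, hZc⟩ := hdiag b hb0 hbσ
    have hb9 : b ^ 9 = -1 := by
      have h1 : b ^ 9 * b ^ 9 = 1 := by rw [← pow_add]; exact hb.pow_eq_one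
      exact (mul_self_eq_one_iff.1 h1).resolve_left fun e => absurd (hb.dvd_of_pow_eq_one 9 e) (by norm_num)
    have hr3 : (el hZ) ^ 3 = 1 := Subtype.ext (by
      show proj Z ^ 3 = 1
      rw [← map_pow]
      refine proj_eq_one.2 (Or.inr ?_)
      rw [Matrix.SpecialLinearGroup.coe_pow, hZc, pow_succ, pow_two]
      ext i k
      fin_cases i <;> fin_cases k <;> simp
      · field_simp
        linear_combination hb9
      · linear_combination hb9)
    have hrab : el hZ * el (h.X_mem 0) * (el hZ)⁻¹ = el (h.X_mem 1) := by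
      rw [mul_inv_eq_iff_eq_mul]
      refine Subtype.ext ?_
      show proj Z * proj (D.X 0) = proj (D.X 1) * proj Z
      rw [← map_mul, ← map_mul]
      refine proj_eq_of (Or.inl ?_)
      rw [Matrix.SpecialLinearGroup.coe_mul, Matrix.SpecialLinearGroup.coe_mul, coe_X, coe_X, hZc]
      ext i k
      fin_cases i <;> fin_cases k <;> simp [Matrix.mul_apply, Fin.sum_univ_two]
      · ring
      · field_simp
        linear_combination -D.C.ω ^ 2 * hb6 - D.C.cube
      · field_simp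
        linear_combination hb6
      · ring
    have hne : el (h.X_mem 0) ≠ el (h.X_mem 1) := fun e => by
      rcases eq_or_neg_of_proj (congrArg Subtype.val e) with e | e <;> rw [coe_X, coe_X] at e <;>
        have e00 := congrFun (congrFun e 0) 0 <;> have e10 := congrFun (congrFun e 1) 0 <;>
        simp at e00 e10
      · exact D.C.ne_one (mul_left_cancel₀ hs (by
          first | linear_combination e10 | linear_combination -e10))
      · exact hs ((mul_eq_zero.1 (show (2 : F) * D.C.s = 0 by linear_combination e00)).resolve_left h2)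
    have hE4 : (el hE) ^ 4 = 1 := Subtype.ext (by
      show proj E ^ 4 = 1
      rw [← map_pow]
      refine proj_eq_one.2 (Or.inr ?_)
      have h8 : z ^ 8 = -1 := by
        have h1 : z ^ 8 * z ^ 8 = 1 := by rw [← pow_add]; exact (hzp.pow_eq_one_iff_dvd 16).2 (hn16 ▸ dvd_rfl)
        exact (mul_self_eq_one_iff.1 h1).resolve_left fun e =>
          absurd (hn16 ▸ hzp.dvd_of_pow_eq_one 8 e) (by norm_num)
      rw [hEcoe, show (z * z) ^ 4 = -1 by rw [← h8]; ring]
      ext i j
      fin_cases i <;> fin_cases j <;> simp [rot, inv_neg]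
      · field_simp
        ring
      · field_simp
        ring)
    have hE2 : (el hE) ^ 2 ≠ 1 := fun e => absurd (hn16 ▸ hEord 2 e) (by norm_num)
    have hnot : ∀ j, (el hE) ^ 2 ≠ el (h.X_mem j) := by
      intro j e
      have e' : proj (E ^ 2) = proj (D.X j) := by rw [map_pow]; exact congrArg Subtype.val e
      rcases eq_or_neg_of_proj e' with e | e <;> rw [hEcoe, coe_X] at e <;>
        have e00 := congrFun (congrFun e 0) 0 <;> have e11 := congrFun (congrFun e 1) 1 <;>
        simp [rot] at e00 e11 <;>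
        exact hs ((mul_eq_zero.1 (show (2 : F) * D.C.s = 0 by
          first | linear_combination -e00 + e11 | linear_combination e00 - e11)).resolve_left h2)
    rcases small_four hsm (hXsq 0) (hXsq 1) (hX01.trans hX10.symm) hne hr3 hrab hE4 hE2 with e | e | e
    · exact hnot 0 e
    · exact hnot 1 e
    · exact hnot 2 (hX01 ▸ e)
  · -- the icosahedral case
    obtain ⟨b, hb⟩ := exists_primRoot D (d := 12) (by rw [hp11]; norm_num)
    obtain ⟨hb0, hbσ⟩ := hprim hb (by rw [hp11])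
    obtain ⟨Z, hZ, hZc⟩ := hdiag b hb0 hbσ
    have hb6 : b ^ 6 = -1 := by
      have h1 : b ^ 6 * b ^ 6 = 1 := by rw [← pow_add]; exact hb.pow_eq_one
      exact (mul_self_eq_one_iff.1 h1).resolve_left fun e => absurd (hb.dvd_of_pow_eq_one 6 e) (by norm_num)
    have hb3 : (b ^ 3)⁻¹ = -b ^ 3 := inv_eq_of_mul_eq_one_right (by linear_combination (-1 : F) * hb6)
    have h11 : (11 : F) = 0 := by
      have := D.charP
      exact_mod_cast (CharP.cast_eq_zero_iff F p 11).2 (by rw [hp11])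
    have h5 : ∀ j, (el hZ * el (h.X_mem j)) ^ 5 = 1 ∧ el hZ * el (h.X_mem j) ≠ 1 := by
      intro j
      set y := -2 * D.C.s * b ^ 3 with hy
      have htr : ((Z * D.X j : S2) : M2).trace = y := by
        rw [Matrix.SpecialLinearGroup.coe_mul, hZc, coe_X, hb3, Matrix.trace_fin_two]
        simp [Matrix.mul_apply, Fin.sum_univ_two, hy]
        ring
      have hy5 : y ^ 2 = 5 := by
        have h3 : (3 : F) * (y ^ 2 - 5) = 0 := by
          rw [hy]
          linear_combination 4 * b ^ 6 * D.C.s_sq - 4 * hb6 - h11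
        exact sub_eq_zero.1 ((mul_eq_zero.1 h3).resolve_left D.C.three_ne_zero)
      obtain ⟨-, -, e5⟩ := sl_pow_facts _ htr
      refine ⟨Subtype.ext ?_, fun e => ?_⟩
      · show (proj Z * proj (D.X j)) ^ 5 = 1
        rw [← map_mul, ← map_pow, proj_eq_one]
        rw [show y ^ 4 - 3 * y ^ 2 + 1 = 0 by linear_combination (y ^ 2 + 2) * hy5 + h11,
          zero_smul, zero_sub] at e5
        have hdet := ((Z * D.X j) ^ 5 : S2).2
        rw [e5, Matrix.det_neg, Matrix.det_smul, Matrix.det_one, Fintype.card_fin, mul_one,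
          neg_one_sq, one_mul, pow_two] at hdet
        rcases mul_self_eq_one_iff.1 hdet with e | e <;> rw [e5, e]
        · exact Or.inr (by rw [one_smul])
        · exact Or.inl (by rw [neg_one_smul, neg_neg])
      · have e' : proj (Z * D.X j) = 1 := by rw [map_mul]; exact congrArg Subtype.val e
        have h4 : y ^ 2 = 4 := by
          rw [← htr]
          rcases proj_eq_one.1 e' with e | e <;> rw [e] <;> simp <;> norm_num
        rw [hy5] at h4
        exact one_ne_zero (show (1 : F) = 0 by linear_combination h4)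
    have hz2' : (el hZ) ^ 2 = 1 := Subtype.ext (by
      show proj Z ^ 2 = 1
      rw [← map_pow]
      refine proj_eq_one.2 (Or.inr ?_)
      rw [Matrix.SpecialLinearGroup.coe_pow, hZc, hb3, pow_two]
      ext i k
      fin_cases i <;> fin_cases k <;> simp <;> linear_combination hb6)
    refine small_five hsm hz2' (hXsq 0) (hXsq 1) (hX01.trans hX10.symm)
      ⟨(h5 0).2, (h5 1).2, ?_⟩ ⟨(h5 0).1, (h5 1).1, ?_⟩
    · rw [hX01]; exact (h5 2).2
    · rw [hX01]; exact (h5 2).1

end Cfsg.Agent.H76.SUThreeCSix
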