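import Cfsg.Agent.H76.SUThreeCSix.Setup

/-!
Transvections and elements of order `p` in an overgroup of the Heisenberg normaliser.
-/

set_option autoImplicit false

open Cfsg

namespace Cfsg.Agent.H76.SUThreeCSix

open Matrix
open Cfsg.Agent.H1.HeisThree (Cube)
open Cfsg.Agent.Symplectic (ut ut_mulVec ut_add UtIn)
open Cfsg.Agent.H95 (u_add_left u_add_right u_smul_left u_smul_right u_sub_left u_sub_right u_conj
  u_symm_zero u_zero_left u_zero_right gl_ext)
open Cfsg.Agent.H36.SLThreeForms (exists_third expand exists_coeff)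

variable {F : Type*} [Field F] [Fintype F] {p : ℕ}

/-- A proper subgroup of `SU₃(p)` over the Heisenberg normaliser. -/
structure Over (D : Fld F p) (M : Subgroup (GL (ZMod 3) F)) : Prop where
  le : M ≤ D.U3
  det : ∀ g ∈ M, (g : Matrix (ZMod 3) (ZMod 3) F).det = 1
  W : ∀ v, D.C.W v ∈ M
  Sj : ∀ j : ℕ, D.C.y ^ j * D.C.S * (D.C.y ^ j)⁻¹ ∈ M
  no : ¬ ∀ g ∈ D.U3, (g : Matrix (ZMod 3) (ZMod 3) F).det = 1 → g ∈ M

namespace Fld

variable (D : Fld F p)

theorem orbit_aux {e z : ZMod 3 → F} (he : e ≠ 0) (hz : z ≠ 0) :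
    ∃ v, ∑ i : ZMod 3, (D.C.wMat v *ᵥ e) i * D.σ (z i) ≠ 0 := by
  obtain ⟨j, hj⟩ := Function.ne_iff.1 he
  by_contra hcon
  push Not at hcon
  apply hz
  funext i0
  have hW : ∀ v : ZMod 3 × ZMod 3, ∀ i, (D.C.wMat v *ᵥ e) i = D.C.ch (v.2 * (i - v.1)) * e (i - v.1) := by
    intro v i
    rw [Matrix.mulVec, dotProduct, Finset.sum_eq_single (i - v.1)]
    · rw [Cube.wMat_apply, if_pos (sub_add_cancel i v.1).symm]
    · intro k _ hk
      rw [Cube.wMat_apply, if_neg, zero_mul]
      exact fun h => hk (by rw [h, add_sub_cancel_right])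
    · simp
  set a := i0 - j with ha
  have h1 : ∑ b : ZMod 3, D.C.ch (-(b * j)) * ∑ i : ZMod 3, (D.C.wMat (a, b) *ᵥ e) i * D.σ (z i) = 0 :=
    Finset.sum_eq_zero fun b _ => by rw [hcon, mul_zero]
  simp only [hW, Finset.mul_sum] at h1
  rw [Finset.sum_comm] at h1
  rw [Finset.sum_congr rfl fun i _ => show
      ∑ b : ZMod 3, D.C.ch (-(b * j)) * (D.C.ch (b * (i - a)) * e (i - a) * D.σ (z i)) =
        (if i - a - j = 0 then (3 : F) else 0) * (e (i - a) * D.σ (z i)) by
      rw [← D.C.sum_ch_mul, Finset.sum_mul]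
      refine Finset.sum_congr rfl fun b _ => ?_
      rw [show b * (i - a - j) = -(b * j) + b * (i - a) by ring, D.C.ch_add]
      ring, Finset.sum_eq_single i0] at h1
  · rw [ha, sub_sub_cancel, sub_self, if_pos rfl] at h1
    have h2 := (mul_eq_zero.1 h1).resolve_left D.C.three_ne_zero
    exact (map_eq_zero_iff D.σ D.σ.injective).1 ((mul_eq_zero.1 h2).resolve_left hj)
  · intro i _ hi
    rw [if_neg, zero_mul]
    intro h
    exact hi (by rw [ha] at h; linear_combination h)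
  · simp

/-- The Heisenberg elements on the standard basis. -/
def W (v : ZMod 3 × ZMod 3) : GL (Fin 3) F := D.C.W v

theorem W_mem_GU (v : ZMod 3 × ZMod 3) : D.W v ∈ Cfsg.GU 3 F p := D.W_mem v

/-- The orbit of a nonzero vector under the Heisenberg group spans. -/
theorem exists_orbit {e z : Fin 3 → F} (he : e ≠ 0) (hz : z ≠ 0) :
    ∃ v, hermForm 3 F p ((D.W v : Matrix (Fin 3) (Fin 3) F) *ᵥ e) z ≠ 0 := D.orbit_aux he hz

end Fld

namespace Over

variable {D : Fld F p} {M : Subgroup (GL (ZMod 3) F)}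

/-- The only unipotent element of square zero is the identity. -/
theorem eq_one_of_sq_zero (h : Over D M) {g : GL (ZMod 3) F} (hg : g ∈ M)
    (hN : ((g : Matrix (ZMod 3) (ZMod 3) F) - 1) * ((g : Matrix (ZMod 3) (ZMod 3) F) - 1) = 0) :
    g = 1 := by
  obtain ⟨σ, hσ, hf⟩ := Symplectic.isUnitaryForm_hermForm (n := 3) D.card
  let M' : Subgroup (GL (Fin 3) F) := M
  let g' : GL (Fin 3) F := g
  set f := hermForm 3 F p with hfdef
  have hgM : g' ∈ M' := hg
  have hgi : ∀ x y, f ((g' : Matrix (Fin 3) (Fin 3) F) *ᵥ x) ((g' : Matrix (Fin 3) (Fin 3) F) *ᵥ y) = f x y :=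
    h.le hg
  set G := (g' : Matrix (Fin 3) (Fin 3) F) with hG
  have hN' : ∀ x, G *ᵥ (G *ᵥ x - x) = G *ᵥ x - x := by
    intro x
    have h1 : (G - 1) * (G - 1) = 0 := hN
    have := congrFun (congrArg (fun A : Matrix (Fin 3) (Fin 3) F => A *ᵥ x) h1)
    rw [← sub_eq_zero]
    funext i
    have := this i
    simpa [← Matrix.mulVec_mulVec, Matrix.sub_mulVec, Matrix.mulVec_sub] using this
  have hiso : ∀ x z, f (G *ᵥ x - x) (G *ᵥ z - z) = 0 := by
    intro x z
    have := hgi x (G *ᵥ z - z)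
    rw [hN'] at this
    rw [u_sub_left hf, this, sub_self]
  have hskew : ∀ x y, f (G *ᵥ x - x) y = -f x (G *ᵥ y - y) := by
    intro x y
    have h1 := hiso x y
    simp only [u_sub_left hf, u_sub_right hf, hgi] at h1 ⊢
    linear_combination -h1
  by_contra hne
  obtain ⟨x₀, hx₀⟩ : ∃ x₀, G *ᵥ x₀ - x₀ ≠ 0 := by
    by_contra hall
    push Not at hall
    apply hne
    have : g' = 1 := gl_ext fun x => by rw [Units.val_one, one_mulVec, ← sub_eq_zero]; exact hall x
    exact this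
  set e := G *ᵥ x₀ - x₀ with he_def
  have he : f e e = 0 := hiso x₀ x₀
  obtain ⟨v, hv⟩ := D.exists_orbit hx₀ hx₀
  have hWi : ∀ v, (D.W v : GL (Fin 3) F) ∈ H95.isoGrp f := fun v => D.W_mem_GU v
  have hWM : ∀ v, D.W v ∈ M' := fun v => h.W v
  set d₀ := (D.W v : Matrix (Fin 3) (Fin 3) F) *ᵥ e with hd₀def
  have hd₀ : f d₀ d₀ = 0 := by rw [hd₀def, H95.mem_isoGrp.1 (hWi v)]; exact he
  have hed₀ : f e d₀ ≠ 0 := fun h0 => hv (u_symm_zero hf h0)
  set d := σ (f e d₀)⁻¹ • d₀ with hd_def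
  have hd : f d d = 0 := by rw [hd_def, u_smul_left hf, u_smul_right hf, hd₀]; ring
  have hed : f e d = 1 := by
    rw [hd_def, u_smul_right hf, H95.u_inv hf, inv_mul_cancel₀ hed₀]
  have hde : f d e = 1 := by rw [← u_conj hf, hed, map_one]
  obtain ⟨v₃, hve, hvd, hvv⟩ := exists_third hf (a := e) (b := d) (fun a b h1 h2 => by
    rw [he, hde] at h1; rw [hed, hd] at h2
    exact ⟨by linear_combination h2, by linear_combination h1⟩)
  have hline : ∀ x, G *ᵥ x - x = f (G *ᵥ x - x) d • e := by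
    intro x
    have h1 := expand hf he hd hed hve hvd hvv (G *ᵥ x - x)
    rw [hiso x x₀, zero_smul, add_zero] at h1
    set k := f (G *ᵥ x - x) v₃ / f v₃ v₃
    have h2 := hiso x x
    rw [h1] at h2
    simp only [u_add_left hf, u_add_right hf, u_smul_left hf, u_smul_right hf, he, hve,
      u_symm_zero hf hve, mul_zero, zero_add] at h2
    have hk : k = 0 := by
      rcases mul_eq_zero.1 h2 with h | h
      · exact h
      · exact (map_eq_zero_iff σ σ.injective).1 ((mul_eq_zero.1 h).resolve_right hvv)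
    rwa [hk, zero_smul, add_zero] at h1
  set l := f (G *ᵥ d - d) d with hl_def
  have hphi : ∀ x, f (G *ᵥ x - x) d = -σ l * f x e := by
    intro x
    rw [hskew x d, hline d, u_smul_right hf]
    ring
  have hl : σ l = -l := by
    have := hphi d
    rw [hde, mul_one, ← hl_def] at this
    linear_combination this
  have hgut : g' = ut hf e l := gl_ext fun x => by
    rw [ut_mulVec hf he, ← hG]
    have := hline x
    rw [hphi x, hl, neg_neg] at this
    rw [← this, add_sub_cancel]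
  have hl0 : l ≠ 0 := fun h0 => by
    apply hne
    show g' = 1
    rw [hgut, h0, Symplectic.ut_zero hf e he]
  have hσ' : ∀ x, D.σ x = σ x := fun x => (hσ x).symm
  have hTe : UtIn hf M' e := by
    intro l' hl'
    obtain ⟨n, hn⟩ := D.exists_natCast (x := l' / l) (by rw [hσ', map_div₀, hl', hl, neg_div_neg_eq])
    have hpow : ∀ m : ℕ, g' ^ m = ut hf e (m * l) := by
      intro m
      induction m with
      | zero => rw [pow_zero, Nat.cast_zero, zero_mul, Symplectic.ut_zero hf e he]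
      | succ m ih => rw [pow_succ, ih, hgut, ut_add hf he, Nat.cast_succ, add_mul, one_mul]
    have : ut hf e l' = g' ^ n := by rw [hpow, hn, div_mul_cancel₀ _ hl0]
    rw [this]
    exact pow_mem hgM n
  have hTd : UtIn hf M' d := (hTe.conj hf he (hWM v) (hWi v)).smul hf hd₀ _
  obtain ⟨w, hw⟩ := D.exists_orbit hx₀ (z := v₃) fun h0 => hvv (by rw [h0, u_zero_left hf])
  set x := (D.W w : Matrix (Fin 3) (Fin 3) F) *ᵥ e
  have hxx : f x x = 0 := by rw [H95.mem_isoGrp.1 (hWi w)]; exact he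
  have hall : ∀ y, f y y = 0 → UtIn hf M' y := fun y hy =>
    H36.SUThreeGeo.utIn_all_of_pair hf he hd hed hve hvd hvv hTe hTd hxx
      (hTe.conj hf he (hWM w) (hWi w)) hw hy
  have hsu := H36.SUThreeGeo.su_le_of_ut_three hf D.card (by have := D.big; omega) hσ hfdef hall
  exact h.no fun k hk hdet => hsu ⟨hk, Cfsg.Agent.H95.mem_specialLinear_iff.2 hdet⟩

/-- An element fixing an anisotropic point has no part of order `p`. -/
theorem no_order_p (h : Over D M) {g : GL (ZMod 3) F} (hg : g ∈ M) {u : ZMod 3 → F}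
    (hu : ∑ i, u i * D.σ (u i) ≠ 0) {c : F} (hgu : (g : Matrix (ZMod 3) (ZMod 3) F) *ᵥ u = c • u)
    (hgp : g ^ (p * (p ^ 2 - 1)) = 1) : g ^ (p ^ 2 - 1) = 1 := by
  obtain ⟨σ, hσ, hf⟩ := Symplectic.isUnitaryForm_hermForm (n := 3) D.card
  have := D.charP
  have := Fact.mk D.prime
  let u' : Fin 3 → F := u
  let U : GL (Fin 3) F := g ^ (p ^ 2 - 1)
  set f := hermForm 3 F p with hfdef
  have hu' : f u' u' ≠ 0 := hu
  have hc : c ≠ 0 := fun h0 => hu (by
    have h1 := congrArg (fun x => ((g⁻¹ : GL (ZMod 3) F) : Matrix (ZMod 3) (ZMod 3) F) *ᵥ x) hgu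
    simp only [Matrix.mulVec_mulVec, h0, zero_smul, Matrix.mulVec_zero, Units.inv_mul, one_mulVec] at h1
    simp [h1])
  have hpow : ∀ m : ℕ, ((g ^ m : GL (ZMod 3) F) : Matrix (ZMod 3) (ZMod 3) F) *ᵥ u = c ^ m • u := by
    intro m
    induction m with
    | zero => simp
    | succ m ih =>
      rw [pow_succ, Units.val_mul, ← Matrix.mulVec_mulVec, hgu, Matrix.mulVec_smul, ih, smul_smul,
        pow_succ, mul_comm]
  have hUu : (U : Matrix (Fin 3) (Fin 3) F) *ᵥ u' = u' := by
    have hc1 : c ^ (p ^ 2 - 1) = 1 := by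
      rw [← D.card]; exact FiniteField.pow_card_sub_one_eq_one c hc
    have h1 := hpow (p ^ 2 - 1)
    rw [hc1, one_smul] at h1
    exact h1
  have hUi : ∀ x y, f ((U : Matrix (Fin 3) (Fin 3) F) *ᵥ x) ((U : Matrix (Fin 3) (Fin 3) F) *ᵥ y) = f x y :=
    h.le (pow_mem hg _)
  have hUp : (U : Matrix (Fin 3) (Fin 3) F) ^ p = 1 := by
    have h1 : U ^ p = 1 := by
      have h2 : (g ^ (p ^ 2 - 1)) ^ p = 1 :=
        (pow_mul g _ _).symm.trans ((congrArg (g ^ ·) (mul_comm _ _)).trans hgp)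
      exact h2
    rw [← Units.val_pow_eq_pow_val, h1, Units.val_one]
  set N := (U : Matrix (Fin 3) (Fin 3) F) - 1 with hNdef
  have hNnil : IsNilpotent N := ⟨p, by
    rw [hNdef, sub_pow_char_of_commute _ (Commute.one_right _), hUp, one_pow, sub_self]⟩
  have hN3 : ∀ x, N *ᵥ (N *ᵥ (N *ᵥ x)) = 0 := by
    have h1 : N.charpoly = Polynomial.X ^ 3 := by
      have h2 := Matrix.isNilpotent_charpoly_sub_pow_of_isNilpotent hNnil
      rw [Fintype.card_fin] at h2
      exact sub_eq_zero.1 h2.eq_zero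
    have h3 := Matrix.aeval_self_charpoly N
    rw [h1, map_pow, Polynomial.aeval_X] at h3
    intro x
    rw [Matrix.mulVec_mulVec, Matrix.mulVec_mulVec, ← pow_three' N, h3, Matrix.zero_mulVec]
  have hNu : N *ᵥ u' = 0 := by rw [hNdef, Matrix.sub_mulVec, hUu, one_mulVec, sub_self]
  have hperp : ∀ x, f (N *ᵥ x) u' = 0 := by
    intro x
    rw [hNdef, Matrix.sub_mulVec, one_mulVec, u_sub_left hf]
    nth_rw 1 [← hUu]
    rw [hUi, sub_self]
  have hN2 : ∀ x, N *ᵥ (N *ᵥ x) = 0 := by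
    intro x
    by_contra hw
    have hind : ∀ a b k : F, a • x + b • (N *ᵥ x) + k • (N *ᵥ (N *ᵥ x)) = 0 → a = 0 ∧ b = 0 ∧ k = 0 := by
      intro a b k h1
      have h2 := congrArg (fun y => N *ᵥ (N *ᵥ y)) h1
      simp only [mulVec_add, mulVec_smul, hN3, smul_zero, add_zero, mulVec_zero] at h2
      have ha := (smul_eq_zero.1 h2).resolve_right hw
      rw [ha, zero_smul, zero_add] at h1
      have h3 := congrArg (fun y => N *ᵥ y) h1
      simp only [mulVec_add, mulVec_smul, hN3, smul_zero, add_zero, mulVec_zero] at h3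
      have hb := (smul_eq_zero.1 h3).resolve_right hw
      rw [hb, zero_smul, zero_add] at h1
      exact ⟨ha, hb, (smul_eq_zero.1 h1).resolve_right hw⟩
    obtain ⟨a, b, k, hab⟩ := exists_coeff hind u'
    have h4 := hNu
    rw [hab] at h4
    simp only [mulVec_add, mulVec_smul, hN3, smul_zero, add_zero] at h4
    obtain ⟨-, ha, hb⟩ := hind 0 a b (by rw [zero_smul, zero_add]; exact h4)
    apply hu'
    rw [ha, hb, zero_smul, zero_smul, zero_add, zero_add] at hab
    nth_rw 1 [hab]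
    rw [u_smul_left hf, hperp, mul_zero]
  refine h.eq_one_of_sq_zero (pow_mem hg _) ?_
  show N * N = 0
  exact Cfsg.Agent.H95.mat_ext fun x => by rw [← Matrix.mulVec_mulVec, hN2, Matrix.zero_mulVec]

end Over

end Cfsg.Agent.H76.SUThreeCSix
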